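import Mathlib

/-!
The numerical inequality for the primitive case.
-/

set_option autoImplicit false

namespace Cfsg.Agent.PairBase

theorem count_arith {q m t z e X c : ℕ} (hq : q.Prime) (htm : t ≤ m) (ht : Odd t)
    (hz : z ∣ q ^ m - 1) (hQ : 4 ≤ q ^ m) (he : Odd e) (he3 : 3 ≤ e) (hc : e ≤ 3 * c)
    (hrz : ∀ r, r.Prime → r ∣ e → r ∣ z) (hX : 2 * X ≤ e ^ 4) (h3 : e = 3 → X ≤ 1)
    (h5 : e = 5 → X ≤ 15) (h7 : e = 7 → X ≤ 63) (h9 : e = 9 → q ^ m ≤ 7 → X ≤ 5) :
    t * z * (e ^ 2 * X) ≤ 2 * (q ^ m) ^ (2 * c) := by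
  set Q := q ^ m with hQdef
  have hzQ : z + 1 ≤ Q := by
    have := Nat.le_of_dvd (by omega) hz
    omega
  have h2t : 2 ^ t ≤ Q :=
    (Nat.pow_le_pow_right (by norm_num) htm).trans (Nat.pow_le_pow_left hq.two_le m)
  have h2t' : 2 * t ≤ 2 ^ t := by
    obtain ⟨s, rfl⟩ : ∃ s, t = s + 1 := ⟨t - 1, by have := ht.pos; omega⟩
    have := Nat.lt_two_pow_self (n := s)
    rw [pow_succ]; omega
  have htz : 2 * (t * z) ≤ Q ^ 2 := by
    calc 2 * (t * z) = (2 * t) * z := by ring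
      _ ≤ Q * Q := Nat.mul_le_mul (h2t'.trans h2t) (by omega)
      _ = Q ^ 2 := (sq Q).symm
  have hQgt : ∀ r, r.Prime → r ∣ e → r < Q := fun r hr hre => by
    have hz0 : 0 < z := Nat.pos_of_ne_zero fun h0 => by
      subst h0
      have := Nat.eq_zero_of_zero_dvd hz
      omega
    have := Nat.le_of_dvd hz0 (hrz r hr hre)
    omega
  -- the generic estimate
  have key : ∀ (cc : ℕ), cc ≤ c → Q ^ 2 * e ^ 6 ≤ 8 * Q ^ (2 * cc) →
      t * z * (e ^ 2 * X) ≤ 2 * Q ^ (2 * c) := by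
    intro cc hcc hle
    have h2 : Q ^ (2 * cc) ≤ Q ^ (2 * c) := Nat.pow_le_pow_right (by omega) (by omega)
    have h4 : 4 * (t * z * (e ^ 2 * X)) ≤ Q ^ 2 * e ^ 6 := by
      calc 4 * (t * z * (e ^ 2 * X)) = (2 * (t * z)) * (e ^ 2 * (2 * X)) := by ring
        _ ≤ Q ^ 2 * (e ^ 2 * e ^ 4) := Nat.mul_le_mul htz (Nat.mul_le_mul_left _ hX)
        _ = Q ^ 2 * e ^ 6 := by ring
    omega
  have mono : ∀ {cc : ℕ}, cc ≤ c → Q ^ (2 * cc) ≤ Q ^ (2 * c) := fun hcc =>
    Nat.pow_le_pow_right (by omega) (by omega)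
  by_cases hbig : 27 ≤ e
  · have hgrow : ∀ j : ℕ, (3 * (j + 9)) ^ 6 ≤ 8 * 4 ^ (2 * (j + 8)) := by
      intro j
      induction j with
      | zero => norm_num
      | succ j ih =>
        have h1 : 2 * (3 * (j + 1 + 9)) ≤ 3 * (3 * (j + 9)) := by omega
        have h2 := Nat.pow_le_pow_left h1 6
        rw [mul_pow, mul_pow 3 (3 * (j + 9))] at h2
        have h3 : 4 ^ (2 * (j + 1 + 8)) = 16 * 4 ^ (2 * (j + 8)) := by ring
        rw [h3]
        norm_num at h2 ⊢
        omega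
    obtain ⟨j, hj⟩ : ∃ j, c = j + 9 := ⟨c - 9, by omega⟩
    refine key c le_rfl ?_
    have h1 : e ^ 6 ≤ 8 * 4 ^ (2 * (j + 8)) := (Nat.pow_le_pow_left (by omega) 6).trans (hgrow j)
    have h2 : 4 ^ (2 * (j + 8)) ≤ Q ^ (2 * (j + 8)) := Nat.pow_le_pow_left hQ _
    calc Q ^ 2 * e ^ 6 ≤ Q ^ 2 * (8 * Q ^ (2 * (j + 8))) := Nat.mul_le_mul_left _ (by omega)
      _ = 8 * Q ^ (2 * c) := by rw [hj]; ring
  by_cases h11 : 11 ≤ e
  · obtain ⟨cc, Q₀, hcc, hQ₀, hnum⟩ : ∃ cc Q₀, cc + 1 ≤ c ∧ Q₀ ≤ Q ∧ e ^ 6 ≤ 8 * Q₀ ^ (2 * cc) := by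
      obtain ⟨s, hs⟩ := he
      have : e = 11 ∨ e = 13 ∨ e = 15 ∨ e = 17 ∨ e = 19 ∨ e = 21 ∨ e = 23 ∨ e = 25 := by omega
      rcases this with rfl | rfl | rfl | rfl | rfl | rfl | rfl | rfl
      · exact ⟨3, 12, by omega, hQgt 11 (by norm_num) dvd_rfl, by norm_num⟩
      · exact ⟨4, 14, by omega, hQgt 13 (by norm_num) dvd_rfl, by norm_num⟩
      · exact ⟨4, 6, by omega, hQgt 5 (by norm_num) (by norm_num), by norm_num⟩
      · exact ⟨5, 18, by omega, hQgt 17 (by norm_num) dvd_rfl, by norm_num⟩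
      · exact ⟨6, 20, by omega, hQgt 19 (by norm_num) dvd_rfl, by norm_num⟩
      · exact ⟨6, 8, by omega, hQgt 7 (by norm_num) (by norm_num), by norm_num⟩
      · exact ⟨7, 24, by omega, hQgt 23 (by norm_num) dvd_rfl, by norm_num⟩
      · exact ⟨8, 6, by omega, hQgt 5 (by norm_num) (by norm_num), by norm_num⟩
    refine key (cc + 1) hcc ?_
    calc Q ^ 2 * e ^ 6 ≤ Q ^ 2 * (8 * Q ^ (2 * cc)) :=
          Nat.mul_le_mul_left _ (hnum.trans (Nat.mul_le_mul_left _ (Nat.pow_le_pow_left hQ₀ _)))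
      _ = 8 * Q ^ (2 * (cc + 1)) := by ring
  obtain ⟨s, hs⟩ := he
  have hsmall : e = 3 ∨ e = 5 ∨ e = 7 ∨ e = 9 := by omega
  rcases hsmall with rfl | rfl | rfl | rfl
  · have h3z : 3 ∣ z := hrz 3 Nat.prime_three dvd_rfl
    have h3Q : 3 ∣ Q - 1 := h3z.trans hz
    have hX1 := h3 rfl
    refine le_trans ?_ (Nat.mul_le_mul_left 2 (mono (cc := 1) (by omega)))
    suffices h : 9 * (t * z) ≤ 2 * Q ^ 2 by
      calc t * z * (3 ^ 2 * X) ≤ t * z * (3 ^ 2 * 1) :=
            Nat.mul_le_mul_left _ (Nat.mul_le_mul_left _ hX1)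
        _ = 9 * (t * z) := by ring
        _ ≤ _ := by simpa using h
    by_cases h14 : 14 ≤ Q ∨ 5 ≤ t
    · suffices h : 9 * t ≤ 2 * Q by
        calc 9 * (t * z) = (9 * t) * z := by ring
          _ ≤ (2 * Q) * Q := Nat.mul_le_mul h (by omega)
          _ = 2 * Q ^ 2 := by ring
      have hgr : ∀ j : ℕ, 9 * (j + 5) ≤ 2 * 2 ^ (j + 5) := by
        intro j
        induction j with
        | zero => norm_num
        | succ j ih => rw [show j + 1 + 5 = (j + 5) + 1 by ring, pow_succ]; omega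
      rcases Nat.lt_or_ge t 5 with h | h
      · obtain ⟨u, hu⟩ := ht
        omega
      · have := hgr (t - 5)
        rw [Nat.sub_add_cancel h] at this
        omega
    · push Not at h14
      rcases Nat.lt_or_ge t 3 with h | h
      · have ht1 : t = 1 := by obtain ⟨u, hu⟩ := ht; omega
        subst ht1
        rcases Nat.lt_or_ge Q 5 with h' | h'
        · have hQ4 : Q = 4 := by omega
          rw [hQ4] at hzQ ⊢
          omega
        · calc 9 * (1 * z) ≤ (2 * Q) * Q := by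
                rw [one_mul]; exact Nat.mul_le_mul (by omega) (by omega)
            _ = 2 * Q ^ 2 := by ring
      · exfalso
        have hm3 : 3 ≤ m := le_trans h htm
        have hq2 : q = 2 := by
          by_contra hne
          have hq3 : 3 ≤ q := by have := hq.two_le; omega
          have : 3 ^ 3 ≤ Q := (Nat.pow_le_pow_right (by norm_num) hm3).trans (Nat.pow_le_pow_left hq3 m)
          omega
        have hm4 : m < 4 := by
          by_contra hne
          have : 2 ^ 4 ≤ Q := by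
            rw [hQdef, hq2]; exact Nat.pow_le_pow_right (by norm_num) (by omega)
          omega
        have hm : m = 3 := by omega
        rw [hQdef, hq2, hm] at h3Q
        norm_num at h3Q
  · have hX1 := h5 rfl
    have hQ6 := hQgt 5 (by norm_num) dvd_rfl
    have hz5 : 5 ∣ Q - 1 := (hrz 5 (by norm_num) dvd_rfl).trans hz
    refine le_trans ?_ (Nat.mul_le_mul_left 2 (mono (cc := 2) (by omega)))
    have h11Q : 11 ≤ Q ∨ Q = 6 := by omega
    rcases h11Q with h | h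
    · have hQ2 : 375 ≤ 4 * Q ^ 2 := by nlinarith
      have : 2 * (t * z * (5 ^ 2 * X)) ≤ 2 * (2 * Q ^ (2 * 2)) := by
        calc 2 * (t * z * (5 ^ 2 * X)) = (2 * (t * z)) * (25 * X) := by ring
          _ ≤ Q ^ 2 * (4 * Q ^ 2) := Nat.mul_le_mul htz (by omega)
          _ = 2 * (2 * Q ^ (2 * 2)) := by ring
      omega
    · exfalso
      have h2' : q ∣ 6 := by
        rw [← h, hQdef]; exact dvd_pow_self q (by have := ht.pos; omega)
      have h6 : q ^ m = 6 := h
      have h26 : (2 : ℕ) ∣ q ^ m := by rw [h6]; norm_num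
      have h36 : (3 : ℕ) ∣ q ^ m := by rw [h6]; norm_num
      have e2 := (Nat.prime_dvd_prime_iff_eq Nat.prime_two hq).1 (Nat.prime_two.dvd_of_dvd_pow h26)
      have e3 := (Nat.prime_dvd_prime_iff_eq Nat.prime_three hq).1 (Nat.prime_three.dvd_of_dvd_pow h36)
      omega
  · have hX1 := h7 rfl
    have hQ8 := hQgt 7 (by norm_num) dvd_rfl
    refine le_trans ?_ (Nat.mul_le_mul_left 2 (mono (cc := 3) (by omega)))
    have hQ4' : 8 ^ 4 ≤ Q ^ 4 := Nat.pow_le_pow_left (by omega) 4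
    norm_num at hQ4'
    have : 2 * (t * z * (7 ^ 2 * X)) ≤ 2 * (2 * Q ^ (2 * 3)) := by
      calc 2 * (t * z * (7 ^ 2 * X)) = (2 * (t * z)) * (49 * X) := by ring
        _ ≤ Q ^ 2 * (4 * Q ^ 4) := Nat.mul_le_mul htz (by omega)
        _ = 2 * (2 * Q ^ (2 * 3)) := by ring
    omega
  · have h3z : 3 ∣ z := hrz 3 Nat.prime_three (by norm_num)
    have h3Q : 3 ∣ Q - 1 := h3z.trans hz
    refine le_trans ?_ (Nat.mul_le_mul_left 2 (mono (cc := 3) (by omega)))
    by_cases h7' : Q ≤ 7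
    · have hX1 := h9 rfl h7'
      have hQ4' : 4 ^ 4 ≤ Q ^ 4 := Nat.pow_le_pow_left hQ 4
      norm_num at hQ4'
      have : 2 * (t * z * (9 ^ 2 * X)) ≤ 2 * (2 * Q ^ (2 * 3)) := by
        calc 2 * (t * z * (9 ^ 2 * X)) = (2 * (t * z)) * (81 * X) := by ring
          _ ≤ Q ^ 2 * (4 * Q ^ 4) := Nat.mul_le_mul htz (by omega)
          _ = 2 * (2 * Q ^ (2 * 3)) := by ring
      omega
    push Not at h7'
    by_cases h17 : 17 ≤ Q
    · have hQ4' : 17 ^ 4 ≤ Q ^ 4 := Nat.pow_le_pow_left h17 4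
      norm_num at hQ4'
      have : 4 * (t * z * (9 ^ 2 * X)) ≤ 4 * (2 * Q ^ (2 * 3)) := by
        calc 4 * (t * z * (9 ^ 2 * X)) = (2 * (t * z)) * (81 * (2 * X)) := by ring
          _ ≤ Q ^ 2 * (8 * Q ^ 4) := Nat.mul_le_mul htz (by norm_num at hX ⊢; omega)
          _ = 4 * (2 * Q ^ (2 * 3)) := by ring
      omega
    -- `Q` is 13 or 16
    have hcases : (Q = 13 ∧ m = 1) ∨ (Q = 16 ∧ q = 2) ∨ (Q = 10 ∨ Q = 8) := by
      rcases Nat.lt_or_ge m 2 with hm | hm
      · have hm1 : m = 1 := by have := ht.pos; omega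
        have hQq : Q = q := by rw [hQdef, hm1, pow_one]
        have : Q = 10 ∨ Q = 13 ∨ Q = 16 := by omega
        rcases this with h | h | h
        · exact Or.inr (Or.inr (Or.inl h))
        · exact Or.inl ⟨h, hm1⟩
        · exfalso; rw [← hQq, h] at hq; norm_num at hq
      · have hQval : Q = 10 ∨ Q = 13 ∨ Q = 16 := by omega
        have hq4 : q ≤ 4 := by
          by_contra h
          have : 5 ^ 2 ≤ Q := (Nat.pow_le_pow_right (by norm_num) hm).trans (Nat.pow_le_pow_left (by omega) m)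
          omega
        rcases hQval with h | h | h
        · exact Or.inr (Or.inr (Or.inl h))
        · exfalso
          have h13 : (13 : ℕ) ∣ q ^ m := ⟨1, by rw [mul_one]; exact h⟩
          have := (Nat.prime_dvd_prime_iff_eq (by norm_num) hq).1 ((by norm_num : Nat.Prime 13).dvd_of_dvd_pow h13)
          omega
        · refine Or.inr (Or.inl ⟨h, ?_⟩)
          have h2' : (2 : ℕ) ∣ q ^ m := ⟨8, h⟩
          exact ((Nat.prime_dvd_prime_iff_eq Nat.prime_two hq).1 (Nat.prime_two.dvd_of_dvd_pow h2')).symm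
    norm_num at hX ⊢
    rcases hcases with ⟨h, hm1⟩ | ⟨h, hq2⟩ | h | h
    · have ht1 : t = 1 := by obtain ⟨u, hu⟩ := ht; omega
      subst ht1
      rw [h] at hzQ ⊢
      calc 1 * z * (81 * X) ≤ 12 * (81 * 3280) := Nat.mul_le_mul (by omega) (by omega)
        _ ≤ _ := by norm_num
    · have ht3 : t ≤ 3 := by
        by_contra hne
        obtain ⟨u, hu⟩ := ht
        have h32 : 2 ^ 5 ≤ Q := (Nat.pow_le_pow_right (by norm_num) (by omega)).trans h2t
        omega
      rw [h] at hzQ ⊢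
      calc t * z * (81 * X) ≤ 3 * 15 * (81 * 3280) :=
            Nat.mul_le_mul (Nat.mul_le_mul ht3 (by omega)) (by omega)
        _ ≤ _ := by norm_num
    · exfalso
      have h6 : q ^ m = 10 := h
      have e2 := (Nat.prime_dvd_prime_iff_eq Nat.prime_two hq).1
        (Nat.prime_two.dvd_of_dvd_pow (show 2 ∣ q ^ m by rw [h6]; norm_num))
      have e5 := (Nat.prime_dvd_prime_iff_eq (by norm_num) hq).1
        ((by norm_num : Nat.Prime 5).dvd_of_dvd_pow (show 5 ∣ q ^ m by rw [h6]; norm_num))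
      omega
    · exfalso
      omega

end Cfsg.Agent.PairBase
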