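import Cfsg.Agent.PairBase.Form
import Cfsg.Agent.PairBase.Arith
import Cfsg.Agent.FG3Fix.QuasiPrimitive
import Cfsg.Agent.ClassicalElem.OutPSL

/-!
Primitive linear groups of odd order have two vectors with trivial common stabiliser.
-/

set_option autoImplicit false
set_option linter.unusedSectionVars false

namespace Cfsg.Agent.PairBase

open scoped commutatorElement
open Module

theorem vandermonde {K M : Type*} [Field K] [AddCommGroup M] [Module K M] {a b c : K}
    (hab : a ≠ b) (hac : a ≠ c) (hbc : b ≠ c) {A B D : M} (h0 : A + a • B + (a * a) • D = 0)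
    (h1 : A + b • B + (b * b) • D = 0) (h2 : A + c • B + (c * c) • D = 0) :
    A = 0 ∧ B = 0 ∧ D = 0 := by
  have e1 : (a - b) • (B + (a + b) • D) = 0 := by
    have : (a - b) • (B + (a + b) • D) = (A + a • B + (a * a) • D) - (A + b • B + (b * b) • D) := by
      module
    rw [this, h0, h1, sub_zero]
  have e2 : (a - c) • (B + (a + c) • D) = 0 := by
    have : (a - c) • (B + (a + c) • D) = (A + a • B + (a * a) • D) - (A + c • B + (c * c) • D) := by
      module
    rw [this, h0, h2, sub_zero]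
  have f1 := (smul_eq_zero.1 e1).resolve_left (sub_ne_zero.2 hab)
  have f2 := (smul_eq_zero.1 e2).resolve_left (sub_ne_zero.2 hac)
  have e3 : (b - c) • D = 0 := by
    have : (b - c) • D = (B + (a + b) • D) - (B + (a + c) • D) := by module
    rw [this, f1, f2, sub_zero]
  have hD := (smul_eq_zero.1 e3).resolve_left (sub_ne_zero.2 hbc)
  rw [hD, smul_zero, add_zero] at f1
  rw [hD, f1, smul_zero, smul_zero, add_zero, add_zero] at h0
  exact ⟨h0, f1, hD⟩

/-- Automorphisms of an abelian group as units of the endomorphism ring. -/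
noncomputable def autToEnd (N : Type*) [CommGroup N] : MulAut N →* Aut1 (Additive N) :=
  MonoidHom.toHomUnits
    { toFun := fun φ => (MonoidHom.toAdditive φ.toMonoidHom : Additive N →+ Additive N)
      map_one' := rfl
      map_mul' := fun _ _ => rfl }

theorem two_mul_card_le {W : Type*} [AddCommGroup W] [Finite W] [Nontrivial W]
    (Y : Subgroup (Aut1 W)) (hodd : Odd (Nat.card Y)) (h : HasPair Y) :
    2 * Nat.card Y ≤ Nat.card W ^ 2 := by
  obtain ⟨v, w, hvw⟩ := h
  obtain ⟨v', w', hf, hne⟩ : ∃ v' w' : W,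
      (∀ x : Y, ((x : Aut1 W) : AddMonoid.End W) v' = v' → ((x : Aut1 W) : AddMonoid.End W) w' = w' → x = 1) ∧
      ∀ x : Y, ((x : Aut1 W) : AddMonoid.End W) v' = v → ((x : Aut1 W) : AddMonoid.End W) w' = w → False := by
    by_cases hdiag : v = w
    · by_cases hv : v = 0
      · obtain ⟨u, hu⟩ := exists_ne (0 : W)
        refine ⟨u, u, fun x _ _ => Subtype.ext (hvw x x.2 (by rw [hv, map_zero]) (by rw [← hdiag, hv, map_zero])),
          fun x h1 _ => hu ?_⟩
        rw [hv, ← map_zero ((x : Aut1 W) : AddMonoid.End W)] at h1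
        exact aut_injective _ h1
      · refine ⟨v, 0, fun x h1 _ => Subtype.ext (hvw x x.2 h1 (hdiag ▸ h1)), fun x _ h2 => hv ?_⟩
        rw [map_zero] at h2
        rw [hdiag, ← h2]
    · refine ⟨w, v, fun x h1 h2 => Subtype.ext (hvw x x.2 h2 h1), fun x h1 h2 => hdiag ?_⟩
      have hx : x * x = 1 := by
        refine Subtype.ext (hvw _ (x * x).2 ?_ ?_)
        · rw [Subgroup.coe_mul, mul_apply', h2, h1]
        · rw [Subgroup.coe_mul, mul_apply', h1, h2]
      rw [eq_one_of_sq hodd hx, Subgroup.coe_one, one_apply'] at h1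
      exact h1.symm
  let F : Y ⊕ Y → W × W := Sum.elim
    (fun x => (((x : Aut1 W) : AddMonoid.End W) v, ((x : Aut1 W) : AddMonoid.End W) w))
    (fun x => (((x : Aut1 W) : AddMonoid.End W) v', ((x : Aut1 W) : AddMonoid.End W) w'))
  have key : ∀ (x y : Y) (a b : W), ((x : Aut1 W) : AddMonoid.End W) a = ((y : Aut1 W) : AddMonoid.End W) b →
      (((y⁻¹ * x : Y) : Aut1 W) : AddMonoid.End W) a = b := fun x y a b h => by
    rw [Subgroup.coe_mul, Subgroup.coe_inv, mul_apply', h, inv_apply_apply]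
  have hF : Function.Injective F := by
    rintro (x | x) (y | y) h <;> simp only [F, Sum.elim_inl, Sum.elim_inr, Prod.mk.injEq] at h
    · exact congrArg Sum.inl (inv_mul_eq_one.1 (Subtype.ext (hvw _ (y⁻¹ * x).2 (key _ _ _ _ h.1) (key _ _ _ _ h.2)))).symm
    · exact (hne (x⁻¹ * y) (key _ _ _ _ h.1.symm) (key _ _ _ _ h.2.symm)).elim
    · exact (hne (y⁻¹ * x) (key _ _ _ _ h.1) (key _ _ _ _ h.2)).elim
    · exact congrArg Sum.inr (inv_mul_eq_one.1 (hf _ (key _ _ _ _ h.1) (key _ _ _ _ h.2))).symm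
  have := Nat.card_le_card_of_injective F hF
  rw [Nat.card_sum, Nat.card_prod] at this
  nlinarith

theorem cube_le {V F : Type*} [Finite V] (g : F → F → F → V)
    (hg : ∀ a b c a' b' c', g a b c = g a' b' c' → a = a' ∧ b = b' ∧ c = c') :
    Nat.card F ^ 3 ≤ Nat.card V := by
  have := Nat.card_le_card_of_injective (fun p : F × F × F => g p.1 p.2.1 p.2.2) (by
    rintro ⟨a, b, c⟩ ⟨a', b', c'⟩ h
    obtain ⟨rfl, rfl, rfl⟩ := hg _ _ _ _ _ _ h
    rfl)
  rw [Nat.card_prod, Nat.card_prod] at this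
  calc Nat.card F ^ 3 = Nat.card F * (Nat.card F * Nat.card F) := by ring
    _ ≤ Nat.card V := this

universe u

set_option maxHeartbeats 1600000

theorem primitive_pair {V : Type u} [AddCommGroup V] [Finite V] [Nontrivial V]
    (X : Subgroup (Aut1 V)) (hodd : Odd (Nat.card X)) [Group.IsSolvable X]
    (hfield : ∀ N : Subgroup X, N.Normal → (∀ a ∈ N, ∀ b ∈ N, a * b = b * a) →
      ∀ r ∈ Subring.closure ((fun g : X => ((g : Aut1 V) : AddMonoid.End V)) '' (N : Set X)),
        r ≠ 0 → Function.Injective r)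
    (hsmall : ∀ (W : Type u) [AddCommGroup W] [Finite W], Nat.card W < Nat.card V →
      ∀ Y : Subgroup (Aut1 W), Odd (Nat.card Y) → Group.IsSolvable Y → CR Y → HasPair Y) :
    HasPair X := by
  classical
  obtain ⟨v₀, hv₀⟩ := exists_ne (0 : V)
  rcases subsingleton_or_nontrivial X with hs | hs
  · exact ⟨v₀, v₀, fun x hx _ _ => congrArg Subtype.val (Subsingleton.elim (⟨x, hx⟩ : X) 1)⟩
  let ι : X →* AddMonoid.End V := (Units.coeHom _).comp X.subtype
  have hιinj : Function.Injective ι := fun a b h => Subtype.ext (Units.ext h)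
  -- a maximal abelian normal subgroup
  obtain ⟨Z, ⟨hZn, hZc⟩, hZmax⟩ := (Set.toFinite {N : Subgroup X |
    N.Normal ∧ ∀ a ∈ N, ∀ b ∈ N, a * b = b * a}).exists_maximal
    ⟨⊥, inferInstance, fun a ha b hb => by rw [Subgroup.mem_bot.1 ha, Subgroup.mem_bot.1 hb]⟩
  haveI := hZn
  have hZne : Z ≠ ⊥ := by
    intro hb
    obtain ⟨N, hN, hN1, -, hNc, -⟩ := MinNormal.exists_elementary_abelian (G := X)
    refine hN1 (le_bot_iff.1 ?_)
    rw [← hb]
    exact hZmax ⟨hN, fun a ha b hb => congrArg Subtype.val (hNc.is_comm.comm (⟨a, ha⟩ : N) ⟨b, hb⟩)⟩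
      (hb ▸ bot_le)
  -- the field
  let K : Subring (AddMonoid.End V) := Subring.closure (ι '' (Z : Set X))
  letI : CommRing K := Subring.closureCommRingOfComm (by
    rintro _ ⟨a, ha, rfl⟩ _ ⟨b, hb, rfl⟩
    rw [← map_mul, hZc a ha b hb, map_mul])
  have hKinj : ∀ k : K, k ≠ 0 → Function.Injective (k : AddMonoid.End V) := fun k hk =>
    hfield Z hZn hZc _ k.2 (fun h => hk (Subtype.ext h))
  haveI : Nontrivial K := ⟨⟨0, 1, fun h => hv₀ (by
    have h' : (0 : AddMonoid.End V) v₀ = (1 : AddMonoid.End V) v₀ := by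
      rw [show (0 : AddMonoid.End V) = 1 from congrArg Subtype.val h]
    exact h'.symm)⟩⟩
  haveI : NoZeroDivisors K := ⟨fun {a b} hab => or_iff_not_imp_left.2 fun ha =>
    Subtype.ext (DFunLike.ext _ _ fun v => hKinj a ha (by
      have := DFunLike.congr_fun (congrArg Subtype.val hab) v
      show (a : AddMonoid.End V) ((b : AddMonoid.End V) v) = (a : AddMonoid.End V) ((0 : AddMonoid.End V) v)
      exact this.trans (map_zero _).symm))⟩
  haveI : IsDomain K := NoZeroDivisors.to_isDomain K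
  haveI : Finite K := Subtype.finite
  letI : Fintype K := Fintype.ofFinite K
  letI : Field K := Fintype.fieldOfDomain K
  letI : Module K V := Module.compHom V (Subring.subtype K)
  have hsmul : ∀ (k : K) (v : V), k • v = (k : AddMonoid.End V) v := fun _ _ => rfl
  haveI : Module.Finite K V := Module.Finite.of_finite
  set d := finrank K V with hd
  set Q := Nat.card K with hQ
  have hVcard : Nat.card V = Q ^ d := Module.natCard_eq_pow_finrank
  -- the action on the field
  have hconjmem : ∀ (g : X), ∀ k ∈ K, ι g * k * ι g⁻¹ ∈ K := by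
    intro g k hk
    induction hk using Subring.closure_induction with
    | mem x hx =>
      obtain ⟨z, hz, rfl⟩ := hx
      rw [← map_mul, ← map_mul]
      exact Subring.subset_closure ⟨_, hZn.conj_mem z hz g, rfl⟩
    | zero => simp
    | one => rw [mul_one, ← map_mul, mul_inv_cancel, map_one]; exact one_mem _
    | add x y _ _ hx hy => rw [mul_add, add_mul]; exact add_mem hx hy
    | neg x _ hx => rw [mul_neg, neg_mul]; exact neg_mem hx
    | mul x y _ _ hx hy =>
      have : ι g * (x * y) * ι g⁻¹ = (ι g * x * ι g⁻¹) * (ι g * y * ι g⁻¹) := by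
        have h1 : ι g⁻¹ * ι g = 1 := by rw [← map_mul, inv_mul_cancel, map_one]
        simp only [mul_assoc]
        rw [← mul_assoc (ι g⁻¹) (ι g), h1, one_mul]
      rw [this]; exact mul_mem hx hy
  have hcancel : ∀ (g : X) (a : AddMonoid.End V), ι g⁻¹ * (ι g * a) = a := fun g a => by
    rw [← mul_assoc, ← map_mul, inv_mul_cancel, map_one, one_mul]
  let σ₀ : X → (K →+* K) := fun g =>
    { toFun := fun k => ⟨ι g * k * ι g⁻¹, hconjmem g k k.2⟩
      map_one' := Subtype.ext (by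
        show ι g * 1 * ι g⁻¹ = 1
        rw [mul_one, ← map_mul, mul_inv_cancel, map_one])
      map_zero' := Subtype.ext (by show ι g * 0 * ι g⁻¹ = 0; simp)
      map_add' := fun a b => Subtype.ext (by
        show ι g * ((a : AddMonoid.End V) + b) * ι g⁻¹ = ι g * a * ι g⁻¹ + ι g * b * ι g⁻¹
        rw [mul_add, add_mul])
      map_mul' := fun a b => Subtype.ext (by
        show ι g * ((a : AddMonoid.End V) * b) * ι g⁻¹ = ι g * a * ι g⁻¹ * (ι g * b * ι g⁻¹)
        simp only [mul_assoc, hcancel]) }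
  have hσmul : ∀ g h k, σ₀ (g * h) k = σ₀ g (σ₀ h k) := fun g h k => Subtype.ext (by
    show ι (g * h) * k * ι (g * h)⁻¹ = ι g * (ι h * k * ι h⁻¹) * ι g⁻¹
    rw [mul_inv_rev, map_mul, map_mul]
    simp only [mul_assoc])
  have hσone : ∀ k, σ₀ 1 k = k := fun k => Subtype.ext (by
    show ι 1 * k * ι (1 : X)⁻¹ = k
    rw [inv_one, map_one, one_mul, mul_one])
  let σ : X →* (K ≃+* K) :=
    { toFun := fun g => RingEquiv.ofRingHom (σ₀ g) (σ₀ g⁻¹)
        (RingHom.ext fun k => by
          show σ₀ g (σ₀ g⁻¹ k) = k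
          rw [← hσmul, mul_inv_cancel, hσone])
        (RingHom.ext fun k => by
          show σ₀ g⁻¹ (σ₀ g k) = k
          rw [← hσmul, inv_mul_cancel, hσone])
      map_one' := RingEquiv.ext hσone
      map_mul' := fun g h => RingEquiv.ext (hσmul g h) }
  have hsemi : ∀ (g : X) (k : K) (v : V), ι g (k • v) = σ g k • ι g v := by
    intro g k v
    show ι g ((k : AddMonoid.End V) v) = (ι g * (k : AddMonoid.End V) * ι g⁻¹) (ι g v)
    have h1 : (ι g * (k : AddMonoid.End V) * ι g⁻¹) * ι g = ι g * k := by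
      rw [mul_assoc, ← map_mul, inv_mul_cancel, map_one, mul_one]
    exact (DFunLike.congr_fun h1 v).symm
  set C := σ.ker with hC
  have hlin : ∀ g ∈ C, ∀ (k : K) (v : V), ι g (k • v) = k • ι g v := fun g hg k v => by
    rw [hsemi, MonoidHom.mem_ker.1 hg]; rfl
  have hCZ : ∀ g ∈ C, ∀ z ∈ Z, g * z = z * g := by
    intro g hg z hz
    have h1 := congrArg Subtype.val (RingEquiv.congr_fun (MonoidHom.mem_ker.1 hg)
      ⟨ι z, Subring.subset_closure ⟨z, hz, rfl⟩⟩)
    change ι g * ι z * ι g⁻¹ = ι z at h1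
    rw [← map_mul, ← map_mul] at h1
    exact mul_inv_eq_iff_eq_mul.1 (hιinj h1)
  have hZC : Z ≤ C := by
    intro z hz
    refine MonoidHom.mem_ker.2 (RingEquiv.ext fun k => Subtype.ext ?_)
    show ι z * (k : AddMonoid.End V) * ι z⁻¹ = k
    have : ∀ k ∈ K, ι z * k = k * ι z := by
      intro k hk
      induction hk using Subring.closure_induction with
      | mem x hx =>
        obtain ⟨y, hy, rfl⟩ := hx
        rw [← map_mul, ← map_mul, hZc z hz y hy]
      | zero => simp
      | one => simp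
      | add x y _ _ hx hy => rw [mul_add, add_mul, hx, hy]
      | neg x _ hx => rw [mul_neg, neg_mul, hx]
      | mul x y _ _ hx hy => rw [← mul_assoc, hx, mul_assoc, hy, mul_assoc]
    rw [this _ k.2, mul_assoc, ← map_mul, mul_inv_cancel, map_one, mul_one]
  -- a generator of the field
  obtain ⟨θu, hθ⟩ := IsCyclic.exists_generator (α := Kˣ)
  set θ : K := (θu : K) with hθdef
  have hθgen : ∀ g : X, σ g θ = θ → g ∈ C := by
    intro g hg
    refine MonoidHom.mem_ker.2 (RingEquiv.ext fun k => ?_)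
    rcases eq_or_ne k 0 with rfl | hk
    · rw [map_zero]; rfl
    · obtain ⟨n, hn⟩ := mem_powers_iff_mem_zpowers.2 (hθ (Units.mk0 k hk))
      have hk' : θ ^ n = k := by
        have := congrArg Units.val hn
        simpa using this
      rw [← hk', map_pow, hg]; rfl
  by_cases hCeq : C ≤ Z
  · -- semilinear
    refine ⟨v₀, θ • v₀, fun x hx h1 h2 => ?_⟩
    set g : X := ⟨x, hx⟩ with hg
    have h1' : ι g v₀ = v₀ := h1
    have h2' : ι g (θ • v₀) = θ • v₀ := h2
    rw [hsemi, h1'] at h2'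
    have hgC : g ∈ C := hθgen g (smul_left_injective K hv₀ h2')
    have hk : (⟨ι g, Subring.subset_closure ⟨g, hCeq hgC, rfl⟩⟩ : K) = 1 := by
      refine smul_left_injective K hv₀ ?_
      show (_ : K) • v₀ = (1 : K) • v₀
      rw [one_smul, hsmul]; exact h1'
    exact congrArg Subtype.val (hιinj ((congrArg Subtype.val hk).trans (map_one ι).symm) : g = 1)
  obtain ⟨c₀, hc₀C, hc₀Z⟩ := SetLike.not_le_iff_exists.1 hCeq
  set π := QuotientGroup.mk' Z with hπ
  have hπZ : ∀ g, π g = 1 ↔ g ∈ Z := fun g => QuotientGroup.eq_one_iff g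
  set Cb := C.map π with hCb
  haveI : Cb.Normal := (MonoidHom.normal_ker σ).map π (QuotientGroup.mk'_surjective Z)
  have hCbmem : ∀ g, π g ∈ Cb → g ∈ C := by
    rintro g ⟨c, hc, hcg⟩
    have : c⁻¹ * g ∈ Z := (hπZ _).1 (by rw [map_mul, map_inv, hcg, inv_mul_cancel])
    simpa using mul_mem hc (hZC this)
  -- the socle below `C`
  let S : Set (Subgroup (X ⧸ Z)) := {L | L.Normal ∧ L ≠ ⊥ ∧ L ≤ Cb ∧
    ∀ M : Subgroup (X ⧸ Z), M.Normal → M ≤ L → M = ⊥ ∨ M = L}
  have hSel : ∀ L ∈ S, IsMulCommutative L ∧ ∃ p : ℕ, p.Prime ∧ (∀ x ∈ L, x ^ p = 1) ∧ IsPGroup p L := by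
    intro L hL
    haveI := hL.1
    exact MinNormal.elementary_abelian' L hL.2.1 hL.2.2.2
  set Eb := Subgroup.closure (⋃ L ∈ S, (L : Set (X ⧸ Z))) with hEb
  have hLEb : ∀ L ∈ S, L ≤ Eb := fun L hL x hx =>
    Subgroup.subset_closure (Set.mem_biUnion hL hx)
  have hEbCb : Eb ≤ Cb := (Subgroup.closure_le _).2 (Set.iUnion₂_subset fun L hL => hL.2.2.1)
  haveI hEbn : Eb.Normal := by
    constructor
    intro y hy g
    have : Eb ≤ Eb.comap (MulAut.conj g).toMonoidHom := (Subgroup.closure_le _).2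
      (Set.iUnion₂_subset fun L hL x hx => hLEb L hL (hL.1.conj_mem x hx g))
    exact this hy
  have hEbcomm : ∀ a ∈ Eb, ∀ b ∈ Eb, a * b = b * a := by
    have hgen : ∀ L ∈ S, ∀ M ∈ S, ∀ a ∈ L, ∀ b ∈ M, a * b = b * a := by
      intro L hL M hM a ha b hb
      haveI := hL.1
      haveI := hM.1
      rcases MinNormal.le_or_inf_eq_bot L hL.2.2.2 M with h | h
      · rcases hM.2.2.2 L hL.1 h with h' | h'
        · exact absurd h' hL.2.1
        · exact congrArg Subtype.val ((hSel M hM).1.is_comm.comm (⟨a, h ha⟩ : M) ⟨b, hb⟩)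
      · exact (Subgroup.commute_of_normal_of_disjoint L M hL.1 hM.1 (disjoint_iff.2 h) a b ha hb).eq
    have h1 : Eb ≤ Subgroup.centralizer (⋃ L ∈ S, (L : Set (X ⧸ Z))) :=
      (Subgroup.closure_le _).2 (Set.iUnion₂_subset fun L hL a ha => Subgroup.mem_centralizer_iff.2
        fun b hb => by
          obtain ⟨M, hM, hbM⟩ := Set.mem_iUnion₂.1 hb
          exact hgen M hM L hL b hbM a ha)
    intro a ha b hb
    have h2 : Eb ≤ Subgroup.centralizer ({a} : Set (X ⧸ Z)) := (Subgroup.closure_le _).2 fun y hy =>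
      Subgroup.mem_centralizer_iff.2 fun x hx => by
        rw [Set.mem_singleton_iff] at hx
        subst hx
        exact (Subgroup.mem_centralizer_iff.1 (h1 ha) y hy).symm
    exact Subgroup.mem_centralizer_iff.1 (h2 hb) a rfl
  have hmin_le : ∀ D : Subgroup (X ⧸ Z), D.Normal → D ≠ ⊥ → D ≤ Cb → ∃ L ∈ S, L ≤ D := by
    intro D hD hD1 hDC
    haveI := hD
    obtain ⟨L, h1, h2, h3, h4⟩ := MinNormal.exists_minimal_normal_le D hD1
    exact ⟨L, ⟨h1, h2, h3.trans hDC, h4⟩, h3⟩
  set E := Eb.comap π with hE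
  have hEC : ∀ y ∈ E, y ∈ C := fun y hy => hCbmem y (hEbCb hy)
  have hZE : Z ≤ E := fun z hz => by
    show π z ∈ Eb
    rw [(hπZ z).2 hz]; exact one_mem _
  have hEEZ : ∀ x ∈ E, ∀ y ∈ E, ⁅x, y⁆ ∈ Z := fun x hx y hy => by
    rw [← hπZ, map_commutatorElement, commutatorElement_eq_one_iff_mul_comm]
    exact hEbcomm _ hx _ hy
  have hcenter : ∀ x ∈ E, (∀ y ∈ E, x * y = y * x) → x ∈ Z := by
    intro x hx hall
    refine hZmax (y := E ⊓ Subgroup.centralizer (E : Set X)) ⟨inferInstance, fun a ha b hb => ?_⟩ ?_ ⟨hx, fun y hy => (hall y hy).symm⟩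
    · exact (Subgroup.mem_centralizer_iff.1 (Subgroup.mem_inf.1 ha).2 b (Subgroup.mem_inf.1 hb).1).symm
    · exact fun z hz => ⟨hZE hz, fun y hy => hCZ y (hEC y hy) z hz⟩
  have hCE : ∀ c ∈ C, (∀ y ∈ E, c * y = y * c) → c ∈ Z := by
    intro c hc hall
    by_contra hcZ
    haveI : E.Normal := hEbn.comap π
    set D := C ⊓ Subgroup.centralizer (E : Set X) with hD
    have hDne : D.map π ≠ ⊥ := fun h => hcZ ((hπZ c).1 (Subgroup.mem_bot.1 (h ▸
      ⟨c, ⟨hc, fun y hy => (hall y hy).symm⟩, rfl⟩)))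
    obtain ⟨L, hL, hLD⟩ := hmin_le _ ((inferInstance : D.Normal).map π (QuotientGroup.mk'_surjective Z))
      hDne (Subgroup.map_mono inf_le_left)
    refine hL.2.1 ((Subgroup.eq_bot_iff_forall _).2 fun y hy => ?_)
    obtain ⟨a, ha, rfl⟩ := hLD hy
    exact (hπZ a).2 (hcenter a (hLEb L hL hy) fun b hb => (ha.2 b hb).symm)
  -- lifts
  letI : CommGroup Eb := { (inferInstance : Group Eb) with
    mul_comm := fun a b => Subtype.ext (hEbcomm a a.2 b b.2) }
  let lft : Eb → X := fun w => (w : X ⧸ Z).out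
  have hlft : ∀ w : Eb, π (lft w) = w := fun w => QuotientGroup.out_eq' _
  have hlftE : ∀ w : Eb, lft w ∈ E := fun w => by
    show π (lft w) ∈ Eb
    rw [hlft]; exact w.2
  have hlftdec : ∀ y ∈ E, ∃ (w : Eb) (z : X), z ∈ Z ∧ y = lft w * z := fun y hy =>
    ⟨⟨π y, hy⟩, (lft ⟨π y, hy⟩)⁻¹ * y, (hπZ _).1 (by rw [map_mul, map_inv, hlft, inv_mul_cancel]),
      by group⟩
  -- commutators as scalars
  let κ₀ : Z →* K :=
    { toFun := fun z => ⟨ι z, Subring.subset_closure ⟨z, z.2, rfl⟩⟩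
      map_one' := Subtype.ext (map_one ι : ι (1 : X) = 1)
      map_mul' := fun a b => Subtype.ext (map_mul ι (a : X) (b : X)) }
  let κ : Z →* Kˣ := κ₀.toHomUnits
  have hκv : ∀ (z : Z) (v : V), ((κ z : Kˣ) : K) • v = ι z v := fun z v => rfl
  have hκinj : Function.Injective κ := fun a b h =>
    Subtype.ext (hιinj (congrArg (fun k : Kˣ => ((k : K) : AddMonoid.End V)) h))
  let cm : X → X → Kˣ := fun x y => if h : ⁅x, y⁆ ∈ Z then κ ⟨_, h⟩ else 1
  have hcm : ∀ x y (h : ⁅x, y⁆ ∈ Z), cm x y = κ ⟨_, h⟩ := fun x y h => dif_pos h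
  have hcmr : ∀ x y y', y ∈ C → ⁅x, y⁆ ∈ Z → ⁅x, y'⁆ ∈ Z →
      ⁅x, y * y'⁆ ∈ Z ∧ cm x (y * y') = cm x y * cm x y' := by
    intro x y y' hy h h'
    have e : ⁅x, y * y'⁆ = ⁅x, y⁆ * ⁅x, y'⁆ := by
      have : ⁅x, y * y'⁆ = ⁅x, y⁆ * (y * ⁅x, y'⁆ * y⁻¹) := by
        simp only [commutatorElement_def]; group
      rw [this, hCZ y hy _ h', mul_inv_cancel_right]
    have hm : ⁅x, y * y'⁆ ∈ Z := e ▸ mul_mem h h'
    refine ⟨hm, ?_⟩
    rw [hcm _ _ hm, hcm _ _ h, hcm _ _ h', ← map_mul]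
    exact congrArg κ (Subtype.ext e)
  have hcml : ∀ x x' y, x ∈ C → ⁅x, y⁆ ∈ Z → ⁅x', y⁆ ∈ Z →
      ⁅x * x', y⁆ ∈ Z ∧ cm (x * x') y = cm x y * cm x' y := by
    intro x x' y hx h h'
    have e : ⁅x * x', y⁆ = ⁅x, y⁆ * ⁅x', y⁆ := by
      have : ⁅x * x', y⁆ = (x * ⁅x', y⁆ * x⁻¹) * ⁅x, y⁆ := by
        simp only [commutatorElement_def]; group
      rw [this, hCZ x hx _ h', mul_inv_cancel_right, hZc _ h' _ h]
    have hm : ⁅x * x', y⁆ ∈ Z := e ▸ mul_mem h h'
    refine ⟨hm, ?_⟩
    rw [hcm _ _ hm, hcm _ _ h, hcm _ _ h', ← map_mul]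
    exact congrArg κ (Subtype.ext e)
  have hzc : ∀ x ∈ C, ∀ z ∈ Z, ⁅x, z⁆ = 1 := fun x hx z hz =>
    commutatorElement_eq_one_iff_mul_comm.2 (hCZ x hx z hz)
  have hwd : ∀ x ∈ C, ∀ y ∈ C, ∀ y' ∈ C, π y = π y' → ⁅x, y⁆ ∈ Z → cm x y' = cm x y := by
    intro x hx y hy y' hy' heq h
    have hz : y⁻¹ * y' ∈ Z := (hπZ _).1 (by rw [map_mul, map_inv, heq, inv_mul_cancel])
    have h1 : ⁅x, y⁻¹ * y'⁆ ∈ Z := by rw [hzc x hx _ hz]; exact one_mem Z
    have h2 := (hcmr x y _ hy h h1).2
    rw [mul_inv_cancel_left] at h2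
    rw [h2, hcm _ _ h1, show (⟨_, h1⟩ : Z) = 1 from Subtype.ext (hzc x hx _ hz), map_one, mul_one]
  have hwdl : ∀ x ∈ C, ∀ x' ∈ C, ∀ y ∈ C, π x = π x' → ⁅x, y⁆ ∈ Z → cm x' y = cm x y := by
    intro x hx x' hx' y hy heq h
    have hz : x⁻¹ * x' ∈ Z := (hπZ _).1 (by rw [map_mul, map_inv, heq, inv_mul_cancel])
    have h0 : ⁅x⁻¹ * x', y⁆ = 1 := commutatorElement_eq_one_iff_mul_comm.2 (hCZ y hy _ hz).symm
    have h1 : ⁅x⁻¹ * x', y⁆ ∈ Z := by rw [h0]; exact one_mem Z
    have h2 := (hcml x _ y hx h h1).2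
    rw [mul_inv_cancel_left] at h2
    rw [h2, hcm _ _ h1, show (⟨_, h1⟩ : Z) = 1 from Subtype.ext h0, map_one, mul_one]
  have hcmone : ∀ x y, cm x y = 1 → ⁅x, y⁆ ∈ Z → x * y = y * x := fun x y h hm => by
    rw [hcm _ _ hm] at h
    exact commutatorElement_eq_one_iff_mul_comm.1 (congrArg Subtype.val (hκinj (h.trans (map_one κ).symm)))
  -- the alternating form
  let β : Eb → Eb → Kˣ := fun u w => cm (lft u) (lft w)
  have hβr : ∀ u w w', β u (w * w') = β u w * β u w' := fun u w w' => by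
    obtain ⟨hm, he⟩ := hcmr (lft u) (lft w) (lft w') (hEC _ (hlftE _)) (hEEZ _ (hlftE _) _ (hlftE _))
      (hEEZ _ (hlftE _) _ (hlftE _))
    show cm _ _ = _
    rw [← he]
    exact hwd _ (hEC _ (hlftE _)) _ (mul_mem (hEC _ (hlftE _)) (hEC _ (hlftE _))) _ (hEC _ (hlftE _))
      (by rw [map_mul, hlft, hlft, hlft]; rfl) hm
  have hβl : ∀ u u' w, β (u * u') w = β u w * β u' w := fun u u' w => by
    obtain ⟨hm, he⟩ := hcml (lft u) (lft u') (lft w) (hEC _ (hlftE _)) (hEEZ _ (hlftE _) _ (hlftE _))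
      (hEEZ _ (hlftE _) _ (hlftE _))
    show cm _ _ = _
    rw [← he]
    exact hwdl _ (mul_mem (hEC _ (hlftE _)) (hEC _ (hlftE _))) _ (hEC _ (hlftE _)) _ (hEC _ (hlftE _))
      (by rw [map_mul, hlft, hlft, hlft]; rfl) hm
  have hβalt : ∀ u, β u u = 1 := fun u => by
    show cm _ _ = 1
    rw [hcm _ _ (hEEZ _ (hlftE _) _ (hlftE _))]
    rw [show (⟨_, hEEZ _ (hlftE u) _ (hlftE u)⟩ : Z) = 1 from Subtype.ext (commutatorElement_self _),
      map_one]
  have hβnd : ∀ u, (∀ w, β u w = 1) → u = 1 := by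
    intro u hall
    have : lft u ∈ Z := hcenter _ (hlftE u) fun y hy => by
      obtain ⟨w, z, hz, rfl⟩ := hlftdec y hy
      rw [← mul_assoc, hcmone _ _ (hall w) (hEEZ _ (hlftE _) _ (hlftE _)), mul_assoc,
        hCZ _ (hEC _ (hlftE _)) z hz, ← mul_assoc]
    exact Subtype.ext ((hlft u).symm.trans ((hπZ _).2 this))
  obtain ⟨e, he⟩ := exists_sq β hβl hβr hβalt hβnd
  -- arithmetic of `e`
  have hoddQ : Odd (Nat.card (X ⧸ Z)) := odd_of_surjective π (QuotientGroup.mk'_surjective Z) hodd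
  have heodd : Odd e := (Nat.odd_pow_iff two_ne_zero).1 (he ▸ odd_subgroup hoddQ Eb)
  have hEbne : Eb ≠ ⊥ := by
    obtain ⟨L, hL, hLC⟩ := hmin_le Cb inferInstance (fun h => hc₀Z ((hπZ c₀).1
      (Subgroup.mem_bot.1 (h ▸ ⟨c₀, hc₀C, rfl⟩)))) le_rfl
    exact fun h => hL.2.1 (le_bot_iff.1 (h ▸ hLEb L hL))
  have he3 : 3 ≤ e := by
    obtain ⟨s, hs⟩ := heodd
    have : e ≠ 1 := fun h1 => hEbne (Subgroup.card_eq_one.1 (by rw [he, h1, one_pow]))
    omega
  set z := Nat.card Z with hz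
  have hzdvd : z ∣ Q - 1 := by
    have := Subgroup.card_dvd_of_injective κ hκinj
    rwa [Nat.card_units] at this
  have hQ4 : 4 ≤ Q := by
    have h1 : 1 < z := Finite.one_lt_card_iff_nontrivial.2 ((Subgroup.nontrivial_iff_ne_bot Z).2 hZne)
    obtain ⟨s, hs⟩ := odd_subgroup hodd Z
    have hQ1 : 1 < Q := Finite.one_lt_card
    have := Nat.le_of_dvd (by omega) hzdvd
    omega
  have hrz : ∀ r, r.Prime → r ∣ e → r ∣ z := by
    intro r hr hre
    haveI := Fact.mk hr
    obtain ⟨w, hw⟩ := exists_prime_orderOf_dvd_card' (G := Eb) r (by rw [he]; exact dvd_pow hre two_ne_zero)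
    obtain ⟨y, hy⟩ : ∃ y, β w y ≠ 1 := by
      by_contra h
      push Not at h
      rw [hβnd w h, orderOf_one] at hw
      exact hr.one_lt.ne hw
    have hpow : β w y ^ r = 1 := by
      have := map_pow (MonoidHom.mk' (fun a => β a y) (fun a b => hβl a b y)) w r
      rw [← hw, pow_orderOf_eq_one, map_one, hw] at this
      exact this.symm
    rw [← orderOf_eq_prime hpow hy]
    show orderOf (cm _ _) ∣ z
    rw [hcm _ _ (hEEZ _ (hlftE w) _ (hlftE y))]
    exact (orderOf_map_dvd κ _).trans (orderOf_dvd_natCard _)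
  -- the dimension
  let l : C →* Module.End K V :=
    { toFun := fun g =>
        { toFun := fun v => ι g v
          map_add' := fun a b => map_add _ a b
          map_smul' := fun k v => hlin g g.2 k v }
      map_one' := LinearMap.ext fun v => by
        show ι (1 : X) v = v
        rw [map_one]; rfl
      map_mul' := fun a b => LinearMap.ext fun v => by
        show ι ((a : X) * b) v = ι a (ι b v)
        rw [map_mul]; rfl }
  let cj : C → Module.End K (Module.End K V) := fun g =>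
    LinearMap.mulLeft K (l g) ∘ₗ LinearMap.mulRight K (l g⁻¹)
  let ψ : Eb → (Eb → K) := fun w u => (cm (lft u) (lft w) : K)
  let Rop : Eb → Module.End K (Module.End K V) := fun u => cj ⟨lft u, hEC _ (hlftE u)⟩
  let U : Eb → Submodule K (Module.End K V) := fun w => FG3Fix.weightSpace Rop (ψ w)
  have hψinj : Function.Injective ψ := by
    intro a b hab
    have hb1 : β 1 1 = 1 := hβalt 1
    have h1 : ∀ u, β u a = β u b := fun u => Units.ext (congrFun hab u)
    have h2 : ∀ u, β u (a * b⁻¹) = 1 := fun u => by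
      have h3 := map_mul_inv (MonoidHom.mk' (β u) (hβr u)) a b
      have h4 : β u a * (β u b)⁻¹ = 1 := by rw [h1, mul_inv_cancel]
      exact h3.trans h4
    have h5 : a * b⁻¹ = 1 := by
      generalize a * b⁻¹ = c at h2 ⊢
      refine hβnd _ fun w => ?_
      have h6 := hβalt (c * w)
      rw [hβl, hβr, hβr, hβalt, h2 w, hβalt, one_mul, mul_one, mul_one] at h6
      exact h6
    exact mul_inv_eq_one.1 h5
  have hmemU : ∀ w : Eb, l ⟨lft w, hEC _ (hlftE w)⟩ ∈ U w := by
    intro w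
    refine FG3Fix.mem_weightSpace.2 fun u => LinearMap.ext fun v => ?_
    show ι (lft u) (ι (lft w) (ι (lft u)⁻¹ v)) = (cm (lft u) (lft w) : K) • ι (lft w) v
    rw [hcm _ _ (hEEZ _ (hlftE u) _ (hlftE w)), hκv]
    show (ι (lft u) * (ι (lft w) * ι (lft u)⁻¹)) v = (ι ⁅lft u, lft w⁆ * ι (lft w)) v
    rw [← map_mul, ← map_mul, ← map_mul]
    congr 1
    congr 1
    simp only [commutatorElement_def]; group
  have hlne : ∀ w : Eb, l ⟨lft w, hEC _ (hlftE w)⟩ ≠ 0 := fun w h => hv₀ (by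
    have h1 : ι (lft w) v₀ = 0 := LinearMap.congr_fun h v₀
    have h2 := aut_injective ((lft w : X) : Aut1 V) (h1.trans (map_zero _).symm)
    exact h2)
  haveI : Fintype Eb := Fintype.ofFinite Eb
  have hed : e ≤ d := by
    have hind : iSupIndep U := (FG3Fix.iSupIndep_weightSpace Rop).comp hψinj
    have hli : LinearIndependent K fun w : Eb => l ⟨lft w, hEC _ (hlftE w)⟩ :=
      hind.linearIndependent U hmemU hlne
    have h1 := hli.fintype_card_le_finrank
    rw [← Nat.card_eq_fintype_card, he, Module.finrank_linearMap, ← hd, sq] at h1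
    exact Nat.mul_self_le_mul_self_iff.1 h1
  have hd3 : 3 ≤ d := he3.trans hed
  -- complete reducibility of the socle
  let act : X ⧸ Z →* Aut1 (Additive Eb) := (autToEnd Eb).comp MulAut.conjNormal
  have hact : ∀ (g : X ⧸ Z) (w : Eb), ((act g : Aut1 (Additive Eb)) : AddMonoid.End (Additive Eb))
      (Additive.ofMul w) = Additive.ofMul (MulAut.conjNormal g w) := fun _ _ => rfl
  set Y := act.range with hY
  have hYcr : CR Y := by
    intro U hU
    let LU : Subgroup (X ⧸ Z) := (U.toSubgroup' : Subgroup Eb).map Eb.subtype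
    have hLU : ∀ w : Eb, (w : X ⧸ Z) ∈ LU ↔ Additive.ofMul w ∈ U := fun w =>
      ⟨fun ⟨a, ha, h⟩ => Subtype.ext h ▸ ha, fun h => ⟨w, h, rfl⟩⟩
    have hLUn : LU.Normal := ⟨fun y hy g => by
      obtain ⟨w, hw, rfl⟩ := hy
      have h1 := hU _ ⟨g, rfl⟩ _ hw
      exact (hLU (MulAut.conjNormal g w)).2 h1⟩
    obtain ⟨L, ⟨hLn, hLle, hLinf⟩, hLmax⟩ := (Set.toFinite {L : Subgroup (X ⧸ Z) |
      L.Normal ∧ L ≤ Eb ∧ LU ⊓ L = ⊥}).exists_maximal ⟨⊥, inferInstance, bot_le, inf_bot_eq _⟩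
    haveI := hLUn
    haveI := hLn
    have hsup : Eb ≤ LU ⊔ L := by
      refine (Subgroup.closure_le _).2 (Set.iUnion₂_subset fun M hM => ?_)
      show M ≤ LU ⊔ L
      haveI := hM.1
      rcases MinNormal.le_or_inf_eq_bot M hM.2.2.2 (LU ⊔ L) with h | h
      · exact h
      · exfalso
        refine hM.2.1 (le_bot_iff.1 ?_)
        have hinf : LU ⊓ (L ⊔ M) = ⊥ := by
          refine (Subgroup.eq_bot_iff_forall _).2 fun x hx => ?_
          obtain ⟨hx1, hx2'⟩ := hx
          have hx2 : x ∈ ((L ⊔ M : Subgroup (X ⧸ Z)) : Set (X ⧸ Z)) := hx2'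
          rw [Subgroup.normal_mul] at hx2
          obtain ⟨a, ha, b, hb, hab⟩ := Set.mem_mul.1 hx2
          have hb' : b ∈ M ⊓ (LU ⊔ L) := ⟨hb, by
            rw [show b = a⁻¹ * x by rw [← hab]; group]
            exact mul_mem (Subgroup.mem_sup_right (inv_mem ha)) (Subgroup.mem_sup_left hx1)⟩
          rw [h, Subgroup.mem_bot] at hb'
          rw [hb', mul_one] at hab
          subst hab
          exact Subgroup.mem_bot.1 (hLinf ▸ ⟨hx1, ha⟩)
        have hle := hLmax (y := L ⊔ M) ⟨inferInstance, sup_le hLle (hLEb M hM), hinf⟩ le_sup_left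
        exact fun y hy => h ▸ ⟨hy, Subgroup.mem_sup_right (hle (Subgroup.mem_sup_right hy))⟩
    refine ⟨(L.comap Eb.subtype).toAddSubgroup, ?_, ?_, ?_⟩
    · rintro _ ⟨g, rfl⟩ w hw
      exact hLn.conj_mem _ hw g
    · refine (AddSubgroup.eq_bot_iff_forall _).2 fun w hw => ?_
      have h1 : ((Additive.toMul w : Eb) : X ⧸ Z) ∈ LU ⊓ L := ⟨(hLU _).2 hw.1, hw.2⟩
      rw [hLinf, Subgroup.mem_bot] at h1
      exact (Subtype.ext h1 : Additive.toMul w = 1)
    · refine eq_top_iff.2 fun w _ => ?_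
      have h1 : ((Additive.toMul w : Eb) : X ⧸ Z) ∈ ((LU ⊔ L : Subgroup (X ⧸ Z)) : Set (X ⧸ Z)) :=
        hsup (Additive.toMul w).2
      rw [Subgroup.normal_mul] at h1
      obtain ⟨a, ha, b, hb, hab⟩ := Set.mem_mul.1 h1
      have haE : a ∈ Eb := Subgroup.map_subtype_le _ ha
      have hw : w = Additive.ofMul (⟨a, haE⟩ : Eb) + Additive.ofMul (⟨b, hLle hb⟩ : Eb) :=
        Additive.toMul.injective (Subtype.ext hab.symm)
      rw [hw]
      exact add_mem (AddSubgroup.mem_sup_left ((hLU ⟨a, haE⟩).1 ha)) (AddSubgroup.mem_sup_right hb)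
  have hYodd : Odd (Nat.card Y) := odd_of_surjective act.rangeRestrict act.rangeRestrict_surjective hoddQ
  have hYsolv : Group.IsSolvable Y := Group.isSolvable_of_surjective act.rangeRestrict_surjective
  have hWcard : Nat.card (Additive Eb) = e ^ 2 := he
  have hXle : 2 * Nat.card Y ≤ e ^ 4 := by
    haveI : Nontrivial Eb := (Subgroup.nontrivial_iff_ne_bot Eb).2 hEbne
    have hlt : Nat.card (Additive Eb) < Nat.card V := by
      rw [hWcard, hVcard]
      calc e ^ 2 ≤ d ^ 2 := Nat.pow_le_pow_left hed 2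
        _ < (2 ^ d) ^ 2 := Nat.pow_lt_pow_left Nat.lt_two_pow_self two_ne_zero
        _ = 4 ^ d := by rw [← pow_mul, mul_comm, pow_mul]; norm_num
        _ ≤ Q ^ d := Nat.pow_le_pow_left hQ4 d
    have := two_mul_card_le Y hYodd (hsmall _ hlt Y hYodd hYsolv hYcr)
    rw [hWcard] at this
    calc 2 * Nat.card Y ≤ (e ^ 2) ^ 2 := this
      _ = e ^ 4 := by ring
  -- elementary in prime power order
  have helem : ∀ r k : ℕ, r.Prime → e ^ 2 = r ^ k → ∀ w : Additive Eb, r • w = 0 := by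
    intro r k hr hek w
    have hpow : ∀ L ∈ S, ∀ x ∈ L, x ^ r = 1 := by
      intro L hL x hx
      obtain ⟨-, p, hp, hxp, hpg⟩ := hSel L hL
      haveI := Fact.mk hp
      obtain ⟨i, hi⟩ := hpg.exists_card_eq
      have hdvd : p ^ i ∣ r ^ k := by
        rw [← hi, ← hek, ← he]; exact Subgroup.card_dvd_of_le (hLEb L hL)
      have hi0 : i ≠ 0 := fun h => hL.2.1 (Subgroup.card_eq_one.1 (by rw [hi, h, pow_zero]))
      have hpr : p = r := (Nat.prime_dvd_prime_iff_eq hp hr).1
        (hp.dvd_of_dvd_pow ((dvd_pow_self p hi0).trans hdvd))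
      exact hpr ▸ hxp x hx
    have hall : ∀ x ∈ Eb, x ^ r = 1 := by
      intro x hx
      induction hx using Subgroup.closure_induction with
      | mem y hy => obtain ⟨L, hL, hyL⟩ := Set.mem_iUnion₂.1 hy; exact hpow L hL y hyL
      | one => exact one_pow r
      | mul a b ha hb iha ihb => rw [(show Commute a b from hEbcomm a ha b hb).mul_pow, iha, ihb, one_mul]
      | inv a _ iha => rw [inv_pow, iha, inv_one]
    exact Additive.toMul.injective (Subtype.ext (hall _ (Additive.toMul w).2))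
  have hgl : ∀ r k : ℕ, r.Prime → e ^ 2 = r ^ k → Nat.card Y ∣ ∏ i : Fin k, (r ^ k - r ^ (i : ℕ)) := by
    intro r k hr hek
    haveI := Fact.mk hr
    exact card_dvd_gl (helem r k hr hek) (hWcard.trans hek) Y
  obtain ⟨q, m', hq, hm'pos, hQpow⟩ := (FiniteField.isPrimePow_card K)
  haveI := Fact.mk hq.nat_prime
  have hQq : Q = q ^ m' := by rw [hQ, Nat.card_eq_fintype_card, hQpow]
  set t := Nat.card σ.range with ht
  have htodd : Odd t := odd_of_surjective σ.rangeRestrict σ.rangeRestrict_surjective hodd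
  have htm : t ≤ m' := by
    haveI : Finite (K ≃+* K) := Finite.of_injective (fun f => (f : K → K)) DFunLike.coe_injective
    obtain ⟨eqv⟩ := ClassicalElem.exists_ringAut_equiv q m' (F := K) (hQ ▸ hQq)
    haveI : NeZero m' := ⟨by omega⟩
    calc t ≤ Nat.card (K ≃+* K) := Subgroup.card_le_card_group _
      _ = m' := by rw [Nat.card_congr eqv.toEquiv, Nat.card_congr Multiplicative.toAdd, Nat.card_zmod]
  have h3 : e = 3 → Nat.card Y ≤ 1 := by
    intro h
    haveI : Fact (Nat.Prime 3) := ⟨Nat.prime_three⟩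
    have h1 : Nat.card Y ∣ 16 * 3 := by
      simpa [Fin.prod_univ_two] using hgl 3 2 Nat.prime_three (by rw [h])
    have h2 : Nat.card Y ∣ 3 ^ 1 := by
      rw [pow_one]
      exact (Nat.Coprime.pow_right 4 hYodd.coprime_two_right : Nat.Coprime (Nat.card Y) (2 ^ 4)).dvd_of_dvd_mul_left h1
    rw [eq_bot_of_card_dvd_pow (helem 3 2 Nat.prime_three (by rw [h])) Y hYcr h2, Subgroup.card_bot]
  have h5 : e = 5 → Nat.card Y ≤ 15 := by
    intro h
    have h1 : Nat.card Y ∣ 32 * 15 := by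
      simpa [Fin.prod_univ_two] using hgl 5 2 (by norm_num) (by rw [h])
    exact Nat.le_of_dvd (by norm_num)
      ((Nat.Coprime.pow_right 5 hYodd.coprime_two_right : Nat.Coprime (Nat.card Y) (2 ^ 5)).dvd_of_dvd_mul_left h1)
  have h7 : e = 7 → Nat.card Y ≤ 63 := by
    intro h
    have h1 : Nat.card Y ∣ 32 * 63 := by
      simpa [Fin.prod_univ_two] using hgl 7 2 (by norm_num) (by rw [h])
    exact Nat.le_of_dvd (by norm_num)
      ((Nat.Coprime.pow_right 5 hYodd.coprime_two_right : Nat.Coprime (Nat.card Y) (2 ^ 5)).dvd_of_dvd_mul_left h1)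
  have h9 : e = 9 → q ^ m' ≤ 7 → Nat.card Y ≤ 5 := by
    intro h h7'
    have ht1 : t = 1 := by
      obtain ⟨u, hu⟩ := htodd
      have : m' < 3 := by
        by_contra hne
        have : 2 ^ 3 ≤ q ^ m' := (Nat.pow_le_pow_right (by norm_num) (by omega)).trans
          (Nat.pow_le_pow_left hq.nat_prime.two_le m')
        omega
      omega
    have hallC : ∀ g : X, g ∈ C := fun g => by
      have hb : σ.range = ⊥ := Subgroup.card_eq_one.1 ht1
      exact MonoidHom.mem_ker.2 (Subgroup.mem_bot.1 (hb ▸ ⟨g, rfl⟩))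
    refine card_le_five (helem 3 4 Nat.prime_three (by rw [h]; norm_num)) (by rw [hWcard, h]; norm_num) Y
      hYodd hYcr (fun u w => β (Additive.toMul u) (Additive.toMul w)) (fun u v w => hβr _ _ _)
      (fun v => hβalt _) (fun u hu => hβnd _ fun w => hu (Additive.ofMul w)) ?_
    rintro _ ⟨g, rfl⟩ u w
    obtain ⟨g, rfl⟩ := QuotientGroup.mk'_surjective Z g
    show β (MulAut.conjNormal (π g) (Additive.toMul u)) (MulAut.conjNormal (π g) (Additive.toMul w)) = _
    generalize Additive.toMul u = a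
    generalize Additive.toMul w = b
    have hgc : ∀ x, g * x * g⁻¹ ∈ C := fun x => hallC _
    have h1 : ⁅g * lft a * g⁻¹, g * lft b * g⁻¹⁆ = ⁅lft a, lft b⁆ := by
      have : ⁅g * lft a * g⁻¹, g * lft b * g⁻¹⁆ = g * ⁅lft a, lft b⁆ * g⁻¹ := by
        simp only [commutatorElement_def]; group
      rw [this, hCZ g (hallC g) _ (hEEZ _ (hlftE _) _ (hlftE _)), mul_inv_cancel_right]
    have hm : ⁅g * lft a * g⁻¹, g * lft b * g⁻¹⁆ ∈ Z := h1 ▸ hEEZ _ (hlftE _) _ (hlftE _)
    have h2 : cm (g * lft a * g⁻¹) (g * lft b * g⁻¹) = cm (lft a) (lft b) := by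
      rw [hcm _ _ hm, hcm _ _ (hEEZ _ (hlftE _) _ (hlftE _))]
      exact congrArg κ (Subtype.ext h1)
    show cm _ _ = cm _ _
    rw [← h2]
    have hpa : π (g * lft a * g⁻¹) = π (lft (MulAut.conjNormal (π g) a)) := by
      rw [hlft, MulAut.conjNormal_apply, map_mul, map_mul, map_inv, hlft]
    have hpb : π (g * lft b * g⁻¹) = π (lft (MulAut.conjNormal (π g) b)) := by
      rw [hlft, MulAut.conjNormal_apply, map_mul, map_mul, map_inv, hlft]
    have hEn : E.Normal := hEbn.comap π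
    rw [hwdl _ (hgc _) _ (hallC _) _ (hallC _) hpa
      (hEEZ _ (hEn.conj_mem _ (hlftE a) g) _ (hlftE _))]
    exact hwd _ (hgc _) _ (hgc _) _ (hallC _) hpb hm
  -- fixed points
  let Fx : X → AddSubgroup V := fun g => fixedAdd ({(g : Aut1 V)} : Set (Aut1 V))
  have hFx : ∀ g v, v ∈ Fx g ↔ ι g v = v := fun g v =>
    ⟨fun h => h _ rfl, fun h s hs => by rw [Set.mem_singleton_iff] at hs; subst hs; exact h⟩
  have hκne : ∀ c (h : c ∈ Z), c ≠ 1 → ((κ ⟨c, h⟩ : Kˣ) : K) ≠ 1 := fun c h hc he' => hc (by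
    have h1 : κ ⟨c, h⟩ = 1 := Units.ext he'
    exact congrArg Subtype.val (hκinj (h1.trans (map_one κ).symm)))
  have hA : ∀ g ∈ C, ∀ y ∈ C, ⁅g, y⁆ ∈ Z → ⁅g, y⁆ ≠ 1 → Nat.card (Fx g) ^ 3 ≤ Nat.card V := by
    intro g hg y hy hm hne
    set c : K := ((κ ⟨_, hm⟩ : Kˣ) : K) with hc
    have hc1 : c ≠ 1 := hκne _ hm hne
    have hc2 : c * c ≠ 1 := by
      intro h
      apply hc1
      have h2 : κ ⟨_, hm⟩ * κ ⟨_, hm⟩ = 1 := Units.ext h
      rw [← map_mul, ← map_one κ] at h2
      have h3 := eq_one_of_sq (odd_subgroup hodd Z) (hκinj h2)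
      rw [hc, h3, map_one, Units.val_one]
    have hgy : ∀ v, ι g v = v → ∀ k : K, ι g (k • ι y v) = (c * k) • ι y v := by
      intro v hv k
      rw [hlin g hg, mul_comm, ← smul_smul, hc, hκv]
      congr 1
      show ι g (ι y v) = ι ⁅g, y⁆ (ι y v)
      have hgy2 : g * y = ⁅g, y⁆ * y * g := by simp only [commutatorElement_def]; group
      calc ι g (ι y v) = ι (g * y) v := by rw [map_mul]; rfl
        _ = ι (⁅g, y⁆ * y * g) v := by rw [← hgy2]
        _ = ι ⁅g, y⁆ (ι y (ι g v)) := by rw [map_mul, map_mul]; rfl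
        _ = _ := by rw [hv]
    have hgy2' : ∀ v, ι g v = v → ι g (ι y (ι y v)) = (c * c) • ι y (ι y v) := by
      intro v hv
      have h1 := hgy v hv 1
      rw [one_smul, mul_one] at h1
      have hgy2 : g * y = ⁅g, y⁆ * y * g := by simp only [commutatorElement_def]; group
      calc ι g (ι y (ι y v)) = ι (g * y) (ι y v) := by rw [map_mul]; rfl
        _ = ι (⁅g, y⁆ * y * g) (ι y v) := by rw [← hgy2]
        _ = ι ⁅g, y⁆ (ι y (ι g (ι y v))) := by rw [map_mul, map_mul]; rfl
        _ = c • ι y (c • ι y v) := by rw [h1]; rfl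
        _ = _ := by rw [hlin y hy, smul_smul]
    refine cube_le (V := V) (F := Fx g) (fun a b e' => (a : V) + ι y b + ι y (ι y e')) ?_
    intro a b e' a' b' e'' heq
    set A := (a : V) - a' with hAdef
    set B := (b : V) - b' with hBdef
    set D := (e' : V) - e'' with hDdef
    have hAf : ι g A = A := (hFx g _).1 (sub_mem a.2 a'.2)
    have hBf : ι g B = B := (hFx g _).1 (sub_mem b.2 b'.2)
    have hDf : ι g D = D := (hFx g _).1 (sub_mem e'.2 e''.2)
    have h0 : A + (1 : K) • ι y B + ((1 : K) * 1) • ι y (ι y D) = 0 := by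
      rw [one_mul, one_smul, one_smul, hAdef, hBdef, hDdef, map_sub, map_sub, map_sub]
      linear_combination (norm := abel) heq
    have h1 : A + c • ι y B + (c * c) • ι y (ι y D) = 0 := by
      have := congrArg (ι g) h0
      rwa [map_add, map_add, hAf, hgy B hBf, one_mul, mul_one, one_smul, hgy2' D hDf, map_zero] at this
    have h2 : A + (c * c) • ι y B + (c * c * (c * c)) • ι y (ι y D) = 0 := by
      have := congrArg (ι g) h1
      rwa [map_add, map_add, hAf, hgy B hBf, hlin g hg, hgy2' D hDf, smul_smul, map_zero] at this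
    have hcne0 : c ≠ 0 := Units.ne_zero _
    obtain ⟨z1, z2, z3⟩ := vandermonde hc1.symm hc2.symm
      (fun h => hc1 (mul_left_cancel₀ hcne0 (by rw [mul_one]; exact h.symm))) h0 h1 h2
    have z2' : B = 0 := aut_injective ((y : X) : Aut1 V) (z2.trans (map_zero _).symm)
    have z3' : D = 0 := aut_injective ((y : X) : Aut1 V)
      ((aut_injective ((y : X) : Aut1 V) (z3.trans (map_zero _).symm)).trans (map_zero _).symm)
    exact ⟨Subtype.ext (sub_eq_zero.1 z1), Subtype.ext (sub_eq_zero.1 z2'), Subtype.ext (sub_eq_zero.1 z3')⟩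
  have hfixC : ∀ g ∈ C, g ≠ 1 → Nat.card (Fx g) ^ 3 ≤ Nat.card V ^ 2 := by
    intro g hg hg1
    have hV1 : 0 < Nat.card V := Nat.card_pos
    by_cases hgZ : g ∈ Z
    · have hb : Fx g = ⊥ := (AddSubgroup.eq_bot_iff_forall _).2 fun v hv => by
        by_contra hv0
        have h1 : ((κ ⟨g, hgZ⟩ : Kˣ) : K) • v = (1 : K) • v := by
          rw [one_smul, hκv]; exact (hFx g v).1 hv
        exact hκne g hgZ hg1 (smul_left_injective K hv0 h1)
      rw [hb, AddSubgroup.card_bot, one_pow]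
      exact Nat.one_le_pow _ _ hV1
    obtain ⟨y, hy, hne⟩ : ∃ y ∈ E, g * y ≠ y * g := by
      by_contra h
      push Not at h
      exact hgZ (hCE g hg h)
    have hne1 : ⁅g, y⁆ ≠ 1 := fun h => hne (commutatorElement_eq_one_iff_mul_comm.1 h)
    by_cases hm : ⁅g, y⁆ ∈ Z
    · exact (hA g hg y (hEC y hy) hm hne1).trans (Nat.le_self_pow two_ne_zero _)
    set h := ⁅g, y⁆ with hh
    have hhE : h ∈ E := by
      haveI : E.Normal := hEbn.comap π
      rw [hh, commutatorElement_def]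
      exact mul_mem ((inferInstance : E.Normal).conj_mem y hy g) (inv_mem hy)
    obtain ⟨y', hy', hne'⟩ : ∃ y' ∈ E, h * y' ≠ y' * h := by
      by_contra h'
      push Not at h'
      exact hm (hcenter h hhE h')
    have hAh := hA h (hEC h hhE) y' (hEC y' hy') (hEEZ h hhE y' hy')
      (fun h' => hne' (commutatorElement_eq_one_iff_mul_comm.1 h'))
    let yF : AddSubgroup V := (Fx g).map (ι y : AddMonoid.End V)
    have hyF : Nat.card yF = Nat.card (Fx g) :=
      (Nat.card_congr ((Fx g).equivMapOfInjective _ (aut_injective ((y : X) : Aut1 V))).toEquiv).symm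
    have hle : Fx g ⊓ yF ≤ Fx h := by
      rintro v ⟨hv, w, hw, rfl⟩
      rw [hFx]
      have hgg : ∀ (a : X) (x : V), ι a x = x → ι a⁻¹ x = x := fun a x hx => by
        conv_lhs => rw [← hx]
        exact inv_apply_apply _ x
      have e1 : ι y⁻¹ (ι y w) = w := inv_apply_apply _ w
      show ι h (ι y w) = ι y w
      rw [hh, commutatorElement_def, map_mul, map_mul, map_mul]
      show ι g (ι y (ι g⁻¹ (ι y⁻¹ (ι y w)))) = ι y w
      rw [e1, hgg g w ((hFx g w).1 hw)]
      exact (hFx g _).1 hv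
    have hcardle : Nat.card (Fx g) * Nat.card yF ≤ Nat.card V * Nat.card (Fx g ⊓ yF : AddSubgroup V) := by
      have e1 := (Fx g).card_mul_index
      have e2 := yF.card_mul_index
      have e3 := (Fx g ⊓ yF).card_mul_index
      have hi : (Fx g ⊓ yF).index ≤ (Fx g).index * yF.index := AddSubgroup.index_inf_le
      refine Nat.le_of_mul_le_mul_right (c := (Fx g).index * yF.index) ?_ ?_
      · calc Nat.card (Fx g) * Nat.card yF * ((Fx g).index * yF.index)
            = Nat.card V * Nat.card V := by rw [mul_mul_mul_comm, e1, e2]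
          _ = Nat.card V * (Nat.card (Fx g ⊓ yF : AddSubgroup V) * (Fx g ⊓ yF).index) := by rw [e3]
          _ ≤ Nat.card V * (Nat.card (Fx g ⊓ yF : AddSubgroup V) * ((Fx g).index * yF.index)) :=
              Nat.mul_le_mul_left _ (Nat.mul_le_mul_left _ hi)
          _ = _ := by ring
      · exact Nat.mul_pos (Nat.pos_of_ne_zero AddSubgroup.index_ne_zero_of_finite)
          (Nat.pos_of_ne_zero AddSubgroup.index_ne_zero_of_finite)
    rw [hyF] at hcardle
    have hle' : Nat.card (Fx g ⊓ yF : AddSubgroup V) ≤ Nat.card (Fx h) :=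
      AddSubgroup.card_le_of_le hle
    have h6 : (Nat.card (Fx g) ^ 3) ^ 2 ≤ (Nat.card V ^ 2) ^ 2 := by
      calc (Nat.card (Fx g) ^ 3) ^ 2 = (Nat.card (Fx g) * Nat.card (Fx g)) ^ 3 := by ring
        _ ≤ (Nat.card V * Nat.card (Fx h)) ^ 3 :=
            Nat.pow_le_pow_left (hcardle.trans (Nat.mul_le_mul_left _ hle')) 3
        _ = Nat.card V ^ 3 * Nat.card (Fx h) ^ 3 := by ring
        _ ≤ Nat.card V ^ 3 * Nat.card V := Nat.mul_le_mul_left _ hAh
        _ = (Nat.card V ^ 2) ^ 2 := by ring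
    exact (Nat.pow_le_pow_iff_left two_ne_zero).1 h6
  have hfixS : ∀ g, g ∉ C → Nat.card (Fx g) ^ 3 ≤ Nat.card V := by
    intro g hg
    have h1 : σ g θ ≠ θ := fun h => hg (hθgen g h)
    have h2 : σ g (σ g θ) ≠ θ := by
      intro h
      apply hg
      have hgg : g * g ∈ C := hθgen _ (by rw [map_mul]; exact h)
      rw [MonoidHom.mem_ker] at hgg ⊢
      have h3 := eq_one_of_sq (G := σ.range) htodd (g := ⟨σ g, g, rfl⟩)
        (Subtype.ext ((map_mul σ g g).symm.trans hgg))
      exact congrArg Subtype.val h3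
    have h3 : σ g θ ≠ σ g (σ g θ) := fun h => h1 ((σ g).injective h).symm
    refine cube_le (V := V) (F := Fx g) (fun a b e' => (a : V) + θ • (b : V) + (θ * θ) • (e' : V)) ?_
    intro a b e' a' b' e'' heq
    set A := (a : V) - a' with hAdef
    set B := (b : V) - b' with hBdef
    set D := (e' : V) - e'' with hDdef
    have hAf : ι g A = A := (hFx g _).1 (sub_mem a.2 a'.2)
    have hBf : ι g B = B := (hFx g _).1 (sub_mem b.2 b'.2)
    have hDf : ι g D = D := (hFx g _).1 (sub_mem e'.2 e''.2)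
    have e0 : A + θ • B + (θ * θ) • D = 0 := by
      rw [hAdef, hBdef, hDdef, smul_sub, smul_sub]
      linear_combination (norm := abel) heq
    have e1 : A + σ g θ • B + (σ g θ * σ g θ) • D = 0 := by
      have := congrArg (ι g) e0
      rwa [map_add, map_add, hAf, hsemi, hBf, hsemi, hDf, map_mul, map_zero] at this
    have e2 : A + σ g (σ g θ) • B + (σ g (σ g θ) * σ g (σ g θ)) • D = 0 := by
      have := congrArg (ι g) e1
      rwa [map_add, map_add, hAf, hsemi, hBf, hsemi, hDf, map_mul, map_zero] at this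
    obtain ⟨z1, z2, z3⟩ := vandermonde (Ne.symm h1) (Ne.symm h2) h3 e0 e1 e2
    exact ⟨Subtype.ext (sub_eq_zero.1 z1), Subtype.ext (sub_eq_zero.1 z2), Subtype.ext (sub_eq_zero.1 z3)⟩
  -- the count
  set f := 2 * d / 3 with hf
  have hfix : ∀ g : X, g ≠ 1 → Nat.card (Fx g) ≤ Q ^ f := by
    intro g hg1
    refine (Nat.pow_le_pow_iff_left (show 3 ≠ 0 by norm_num)).1 ?_
    rw [← pow_mul]
    by_cases hg : g ∈ C
    · let F' : Submodule K V :=
        { toAddSubmonoid := (Fx g).toAddSubmonoid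
          smul_mem' := fun k v hv => (hFx g _).2 (by rw [hlin g hg, (hFx g v).1 hv]) }
      have hcard : Nat.card (Fx g) = Q ^ finrank K F' := Module.natCard_eq_pow_finrank (V := F')
      have h1 := hfixC g hg hg1
      rw [hcard, hVcard, ← pow_mul, ← pow_mul] at h1
      have h2 : finrank K F' * 3 ≤ d * 2 := (Nat.pow_le_pow_iff_right (by omega)).1 h1
      rw [hcard, ← pow_mul]
      exact Nat.pow_le_pow_right (by omega) (by omega)
    · calc Nat.card (Fx g) ^ 3 ≤ Nat.card V := hfixS g hg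
        _ = Q ^ d := hVcard
        _ ≤ Q ^ (f * 3) := Nat.pow_le_pow_right (by omega) (by omega)
  have hCbcard : Nat.card Cb ≤ e ^ 2 * Nat.card Y := by
    let fY : Cb →* Aut1 (Additive Eb) := act.comp Cb.subtype
    have hrange : Nat.card fY.range ≤ Nat.card Y :=
      Subgroup.card_le_of_le (by rintro _ ⟨a, rfl⟩; exact ⟨a, rfl⟩)
    have hker : Nat.card fY.ker ≤ e ^ 2 := by
      have hk : ∀ k : fY.ker, ∀ w : Eb, ⁅((k : Cb) : X ⧸ Z).out, lft w⁆ ∈ Z := by
        intro k w
        rw [← hπZ, map_commutatorElement, commutatorElement_eq_one_iff_mul_comm,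
          show π ((k : Cb) : X ⧸ Z).out = ((k : Cb) : X ⧸ Z) from QuotientGroup.out_eq' _, hlft]
        have h0 := congrArg (fun a : Aut1 (Additive Eb) => (a : AddMonoid.End (Additive Eb)) (Additive.ofMul w))
          (MonoidHom.mem_ker.1 k.2)
        have h1 : MulAut.conjNormal ((k : Cb) : X ⧸ Z) w = w := Additive.ofMul.injective h0
        have h2 := congrArg Subtype.val h1
        rw [MulAut.conjNormal_apply] at h2
        exact mul_inv_eq_iff_eq_mul.1 h2
      have hkC : ∀ k : fY.ker, ((k : Cb) : X ⧸ Z).out ∈ C := fun k => hCbmem _ (by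
        rw [show π ((k : Cb) : X ⧸ Z).out = ((k : Cb) : X ⧸ Z) from QuotientGroup.out_eq' _]
        exact (k : Cb).2)
      let Φ : fY.ker → (Eb →* K) := fun k => (Units.coeHom K).comp (MonoidHom.mk'
        (fun w => cm ((k : Cb) : X ⧸ Z).out (lft w)) (fun w w' => by
          obtain ⟨hm, he'⟩ := hcmr _ (lft w) (lft w') (hEC _ (hlftE _)) (hk k w) (hk k w')
          rw [← he']
          exact hwd _ (hkC k) _ (mul_mem (hEC _ (hlftE _)) (hEC _ (hlftE _))) _
            (hEC _ (hlftE _)) (by rw [map_mul, hlft, hlft, hlft]; rfl) hm))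
      have hΦ : Function.Injective Φ := by
        intro a b hab
        set x := ((a : Cb) : X ⧸ Z).out with hx
        set x' := ((b : Cb) : X ⧸ Z).out with hx'
        have hxZ : x'⁻¹ * x ∈ Z := by
          refine hCE _ (mul_mem (inv_mem (hkC b)) (hkC a)) fun y hy => ?_
          obtain ⟨w, z, hz, rfl⟩ := hlftdec y hy
          have h1 : cm x (lft w) = cm x' (lft w) := Units.ext (DFunLike.congr_fun hab w)
          rw [hcm _ _ (hk a w), hcm _ _ (hk b w)] at h1
          have h2 : ⁅x, lft w⁆ = ⁅x', lft w⁆ := congrArg Subtype.val (hκinj h1)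
          simp only [commutatorElement_def] at h2
          have h3 : x * lft w * x⁻¹ = x' * lft w * x'⁻¹ := mul_right_cancel h2
          have h4 : x'⁻¹ * x * lft w = lft w * (x'⁻¹ * x) := by
            calc x'⁻¹ * x * lft w = x'⁻¹ * (x * lft w * x⁻¹) * x := by group
              _ = x'⁻¹ * (x' * lft w * x'⁻¹) * x := by rw [h3]
              _ = _ := by group
          rw [← mul_assoc, h4, mul_assoc, hCZ _ (mul_mem (inv_mem (hkC b)) (hkC a)) z hz, ← mul_assoc]
        have h5 : π x = π x' := by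
          have := (hπZ _).2 hxZ
          rw [map_mul, map_inv, inv_mul_eq_one] at this
          exact this.symm
        rw [hπ, QuotientGroup.mk'_apply, QuotientGroup.mk'_apply, hx, hx', QuotientGroup.out_eq',
          QuotientGroup.out_eq'] at h5
        exact Subtype.ext (Subtype.ext h5)
      haveI : Finite (Eb →* K) := Finite.of_injective (fun φ => (φ : Eb → K)) DFunLike.coe_injective
      haveI : Fintype (Eb →* K) := Fintype.ofFinite _
      have hhom : Nat.card (Eb →* K) ≤ e ^ 2 := by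
        have := (linearIndependent_monoidHom Eb K).fintype_card_le_finrank
        rwa [Module.finrank_fintype_fun_eq_card, ← Nat.card_eq_fintype_card, ← Nat.card_eq_fintype_card,
          he] at this
      exact (Nat.card_le_card_of_injective Φ hΦ).trans hhom
    calc Nat.card Cb = Nat.card fY.ker * Nat.card fY.range := by
          rw [← fY.ker.card_mul_index, Subgroup.index_ker]
      _ ≤ _ := Nat.mul_le_mul hker hrange
  have hXcard : Nat.card X = t * (z * Nat.card Cb) := by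
    have h1 : Nat.card X = Nat.card C * t := by rw [← σ.ker.card_mul_index, Subgroup.index_ker]
    have h2 : Nat.card C = z * Nat.card Cb := by
      rw [← (Z.subgroupOf C).card_mul_index, ← Subgroup.relIndex, hz,
        Nat.card_congr (Subgroup.subgroupOfEquivOfLe hZC).toEquiv]
      congr 1
      have h3 := (π.comp C.subtype).ker.card_mul_index
      have h4 : (π.comp C.subtype).ker = Z.subgroupOf C := by
        ext a
        rw [MonoidHom.mem_ker, Subgroup.mem_subgroupOf]
        exact hπZ a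
      have h5 : (π.comp C.subtype).range = Cb := by rw [MonoidHom.range_comp, Subgroup.range_subtype]
      rw [Subgroup.relIndex, ← h4, Subgroup.index_ker, h5]
    rw [h1, h2]; ring
  have harith := count_arith (c := d - f) hq.nat_prime htm htodd (hQq ▸ hzdvd) (hQq ▸ hQ4) heodd he3
    (by omega) hrz hXle h3 h5 h7 h9
  rw [← hQq] at harith
  letI : MulAction X (V × V) :=
    { smul := fun g p => (ι g p.1, ι g p.2)
      one_smul := fun p => rfl
      mul_smul := fun a b p => rfl }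
  have hB : ∀ g : X, g ≠ 1 → Nat.card {p : V × V // g • p = p} ≤ Q ^ f * Q ^ f := by
    intro g hg1
    refine le_trans ?_ (Nat.mul_le_mul (hfix g hg1) (hfix g hg1))
    rw [← Nat.card_prod]
    refine Nat.card_le_card_of_injective (fun p => (⟨p.1.1, (hFx g _).2 (congrArg Prod.fst p.2)⟩,
      ⟨p.1.2, (hFx g _).2 (congrArg Prod.snd p.2)⟩)) fun p p' h => ?_
    exact Subtype.ext (Prod.ext (congrArg Subtype.val (congrArg Prod.fst h))
      (congrArg Subtype.val (congrArg Prod.snd h)))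
  have hcount : Nat.card X * (Q ^ f * Q ^ f) ≤ 2 * Nat.card (V × V) := by
    rw [Nat.card_prod, hVcard, hXcard, ← pow_add, ← pow_add, ← mul_assoc t z]
    calc t * z * Nat.card Cb * Q ^ (f + f)
        ≤ t * z * (e ^ 2 * Nat.card Y) * Q ^ (f + f) :=
          Nat.mul_le_mul_right _ (Nat.mul_le_mul_left _ hCbcard)
      _ ≤ 2 * Q ^ (2 * (d - f)) * Q ^ (f + f) := Nat.mul_le_mul_right _ harith
      _ = 2 * Q ^ (d + d) := by rw [mul_assoc, ← pow_add]; congr 2; omega
  obtain ⟨⟨v, w⟩, hvw⟩ := exists_unfixed (G := X) (S := V × V) hodd _ hB hcount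
  exact ⟨v, w, fun x hx h1 h2 => congrArg Subtype.val (hvw ⟨x, hx⟩ (Prod.ext h1 h2))⟩

end Cfsg.Agent.PairBase
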