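import Cfsg.Agent.PairBase.Gluck
import Cfsg.Agent.PairBase.Primitive

/-!
A completely reducible solvable group of odd order has two vectors with trivial common stabiliser.
-/

set_option autoImplicit false
set_option linter.unusedSectionVars false

namespace Cfsg.Agent.PairBase

universe u v

variable {V : Type u} [AddCommGroup V]

/-- Restriction to an invariant subgroup. -/
def restrict (H : Subgroup (Aut1 V)) (U : AddSubgroup V) (hU : Invariant H U) : H →* Aut1 U :=
  MonoidHom.toHomUnits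
    { toFun := fun h => AddMonoidHom.mk' (fun v : U => (⟨((h : Aut1 V) : AddMonoid.End V) v, hU h h.2 v v.2⟩ : U))
        (fun a b => Subtype.ext (map_add _ _ _))
      map_one' := rfl
      map_mul' := fun _ _ => rfl }

theorem restrict_apply (H : Subgroup (Aut1 V)) (U : AddSubgroup V) (hU : Invariant H U) (h : H) (v : U) :
    (((restrict H U hU h : Aut1 U) : AddMonoid.End U) v : V) = ((h : Aut1 V) : AddMonoid.End V) v := rfl

theorem cr_restrict (X : Subgroup (Aut1 V)) (hcr : CR X) (U : AddSubgroup V) (hU : Invariant X U) :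
    CR (restrict X U hU).range := by
  intro W hW
  obtain ⟨W', hW', hinf, hsup⟩ := hcr (W.map U.subtype) (by
    rintro x hx _ ⟨w, hw, rfl⟩
    exact ⟨_, hW _ ⟨⟨x, hx⟩, rfl⟩ w hw, rfl⟩)
  refine ⟨W'.comap U.subtype, ?_, ?_, ?_⟩
  · rintro _ ⟨x, rfl⟩ w hw
    exact hW' x x.2 _ hw
  · refine (AddSubgroup.eq_bot_iff_forall _).2 fun w hw => Subtype.ext ?_
    have : (w : V) ∈ W.map U.subtype ⊓ W' := ⟨⟨w, hw.1, rfl⟩, hw.2⟩
    rw [hinf] at this
    exact AddSubgroup.mem_bot.1 this
  · refine eq_top_iff.2 fun w _ => ?_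
    have : (w : V) ∈ W.map U.subtype ⊔ W' := by rw [hsup]; trivial
    obtain ⟨_, ⟨a, ha, rfl⟩, b, hb, hab⟩ := AddSubgroup.mem_sup.1 this
    refine AddSubgroup.mem_sup.2 ⟨a, ha, w - a, ?_, by abel⟩
    show (w : V) - (a : V) ∈ W'
    rw [← hab]
    simpa using hb

theorem exists_two_pairs {W : Type u} [AddCommGroup W] [Finite W] [Nontrivial W]
    (Y : Subgroup (Aut1 W)) (hodd : Odd (Nat.card Y)) (h : HasPair Y) :
    ∃ P₀ P₁ : W × W,
      (∀ x ∈ Y, (x : AddMonoid.End W) P₀.1 = P₀.1 → (x : AddMonoid.End W) P₀.2 = P₀.2 → x = 1) ∧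
      (∀ x ∈ Y, (x : AddMonoid.End W) P₁.1 = P₁.1 → (x : AddMonoid.End W) P₁.2 = P₁.2 → x = 1) ∧
      (∀ x ∈ Y, (x : AddMonoid.End W) P₀.1 = P₁.1 → (x : AddMonoid.End W) P₀.2 = P₁.2 → False) ∧
      (∀ x ∈ Y, (x : AddMonoid.End W) P₁.1 = P₀.1 → (x : AddMonoid.End W) P₁.2 = P₀.2 → False) := by
  obtain ⟨v, w, hvw, hne⟩ : ∃ v w : W,
      (∀ x ∈ Y, (x : AddMonoid.End W) v = v → (x : AddMonoid.End W) w = w → x = 1) ∧ ¬ (v = 0 ∧ w = 0) := by
    obtain ⟨v, w, hvw⟩ := h
    by_cases h0 : v = 0 ∧ w = 0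
    · obtain ⟨u, hu⟩ := exists_ne (0 : W)
      exact ⟨u, u, fun x hx _ _ => hvw x hx (by rw [h0.1, map_zero]) (by rw [h0.2, map_zero]),
        fun h => hu h.1⟩
    · exact ⟨v, w, hvw, h0⟩
  by_cases hd : v = w
  · subst hd
    have hv : v ≠ 0 := fun h => hne ⟨h, h⟩
    refine ⟨(v, v), (v, 0), hvw, fun x hx h1 _ => hvw x hx h1 h1, fun x _ _ h2 => hv ?_,
      fun x _ _ h2 => hv ?_⟩
    · exact aut_injective x (h2.trans (map_zero _).symm)
    · exact h2.symm.trans (map_zero _)
  · have key : ∀ x ∈ Y, (x : AddMonoid.End W) v = w → (x : AddMonoid.End W) w = v → False := by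
      intro x hx h1 h2
      have hxx : (⟨x, hx⟩ : Y) * ⟨x, hx⟩ = 1 := Subtype.ext (hvw _ (mul_mem hx hx)
        (show ((x * x : Aut1 W) : AddMonoid.End W) v = v by rw [mul_apply', h1, h2])
        (show ((x * x : Aut1 W) : AddMonoid.End W) w = w by rw [mul_apply', h2, h1]))
      have hx1 : x = 1 := congrArg Subtype.val (eq_one_of_sq hodd hxx)
      rw [hx1, one_apply'] at h1
      exact hd h1
    exact ⟨(v, w), (w, v), hvw, fun x hx h1 h2 => hvw x hx h2 h1, key,
      fun x hx h1 h2 => key x hx h2 h1⟩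

theorem exists_idem_pow {R : Type*} [Monoid R] [Finite R] (r : R) :
    ∃ k, 0 < k ∧ r ^ k * r ^ k = r ^ k := by
  obtain ⟨i, j, hne, hij⟩ := Finite.exists_ne_map_eq_of_infinite fun n : ℕ => r ^ n
  wlog hlt : i < j generalizing i j
  · exact this j i hne.symm hij.symm (by omega)
  set p := j - i with hp
  have hrec : ∀ t, r ^ (i + t * p) = r ^ i := by
    intro t
    induction t with
    | zero => simp
    | succ t ih =>
      rw [show i + (t + 1) * p = (i + t * p) + p by ring, pow_add, ih, ← pow_add,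
        show i + p = j by omega]
      exact hij.symm
  have hp1 : 1 ≤ p := by omega
  refine ⟨(i + 1) * p, by positivity, ?_⟩
  have hle : i ≤ (i + 1) * p := by nlinarith
  obtain ⟨s, hs⟩ : ∃ s, (i + 1) * p = s + i := ⟨(i + 1) * p - i, by omega⟩
  rw [← pow_add, show (i + 1) * p + (i + 1) * p = s + (i + (i + 1) * p) by omega, pow_add, hrec,
    ← pow_add, ← hs]

/-- An irreducible group that is not primitive. -/
theorem imprimitive_pair [Finite V] [Nontrivial V] (X : Subgroup (Aut1 V))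
    (hodd : Odd (Nat.card X)) [Group.IsSolvable X] (hirr : Irred X) (N : Subgroup X) (hN : N.Normal)
    (hNc : ∀ a ∈ N, ∀ b ∈ N, a * b = b * a) (r : AddMonoid.End V)
    (hr : r ∈ Subring.closure ((fun g : X => ((g : Aut1 V) : AddMonoid.End V)) '' (N : Set X)))
    (hr0 : r ≠ 0) (hrinj : ¬ Function.Injective r)
    (hsmall : ∀ (W : Type u) [AddCommGroup W] [Finite W], Nat.card W < Nat.card V →
      ∀ Y : Subgroup (Aut1 W), Odd (Nat.card Y) → Group.IsSolvable Y → CR Y → HasPair Y) :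
    HasPair X := by
  classical
  let ι : X →* AddMonoid.End V := (Units.coeHom _).comp X.subtype
  set K : Subring (AddMonoid.End V) := Subring.closure (ι '' (N : Set X)) with hK
  have hrK : r ∈ K := hr
  have hcomm : ∀ a ∈ K, ∀ b ∈ K, a * b = b * a := by
    intro a ha b hb
    letI : CommRing K := Subring.closureCommRingOfComm (by
      rintro _ ⟨a, ha, rfl⟩ _ ⟨b, hb, rfl⟩
      rw [← map_mul, hNc a ha b hb, map_mul])
    exact congrArg Subtype.val (mul_comm (⟨a, ha⟩ : K) ⟨b, hb⟩)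
  have hcancel : ∀ (g : X) (a : AddMonoid.End V), ι g⁻¹ * (ι g * a) = a := fun g a => by
    rw [← mul_assoc, ← map_mul, inv_mul_cancel, map_one, one_mul]
  let cj : X → AddMonoid.End V → AddMonoid.End V := fun g k => ι g * k * ι g⁻¹
  have cj_mul : ∀ g a b, cj g (a * b) = cj g a * cj g b := fun g a b => by
    simp only [cj, mul_assoc, hcancel]
  have cj_comp : ∀ g h a, cj (g * h) a = cj g (cj h a) := fun g h a => by
    simp only [cj, mul_inv_rev, map_mul, mul_assoc]
  have cj_one : ∀ a, cj 1 a = a := fun a => by simp only [cj, inv_one, map_one, one_mul, mul_one]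
  have cj_inv : ∀ g a, cj g⁻¹ (cj g a) = a := fun g a => by
    rw [← cj_comp, inv_mul_cancel, cj_one]
  have cj_zero : ∀ g, cj g 0 = 0 := fun g => by simp only [cj, mul_zero, zero_mul]
  have cj_mem : ∀ (g : X), ∀ k ∈ K, cj g k ∈ K := by
    intro g k hk
    induction hk using Subring.closure_induction with
    | mem x hx =>
      obtain ⟨z, hz, rfl⟩ := hx
      show ι g * ι z * ι g⁻¹ ∈ K
      rw [← map_mul, ← map_mul]
      exact Subring.subset_closure ⟨_, hN.conj_mem z hz g, rfl⟩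
    | zero => rw [cj_zero]; exact zero_mem _
    | one => simp only [cj, mul_one, ← map_mul, mul_inv_cancel, map_one]; exact one_mem _
    | add x y _ _ hx hy => simp only [cj, mul_add, add_mul] at hx hy ⊢; exact add_mem hx hy
    | neg x _ hx => simp only [cj, mul_neg, neg_mul] at hx ⊢; exact neg_mem hx
    | mul x y _ _ hx hy => rw [cj_mul]; exact mul_mem hx hy
  have cj_app : ∀ (g : X) a v, cj g a (ι g v) = ι g (a v) := fun g a v => by
    show (ι g * a * ι g⁻¹ * ι g) v = (ι g * a) v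
    rw [mul_assoc, ← map_mul, inv_mul_cancel, map_one, mul_one]
  -- `K` is reduced
  have hred : ∀ b ∈ K, ∀ n, b ^ n = 0 → b = 0 := by
    let J : Set (AddMonoid.End V) := {b | b ∈ K ∧ ∃ n, b ^ n = 0}
    let U : AddSubgroup V :=
      { carrier := {v | ∀ b ∈ J, b v = 0}
        zero_mem' := fun b _ => map_zero b
        add_mem' := fun ha hb b h => by rw [map_add, ha b h, hb b h, add_zero]
        neg_mem' := fun ha b h => by rw [map_neg, ha b h, neg_zero] }
    have hJcj : ∀ g, ∀ b ∈ J, cj g b ∈ J := by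
      rintro g b ⟨hb, n, hn⟩
      refine ⟨cj_mem g b hb, n + 1, ?_⟩
      have : ∀ m, cj g b ^ (m + 1) = cj g (b ^ (m + 1)) := by
        intro m
        induction m with
        | zero => simp
        | succ m ih => rw [pow_succ, ih, ← cj_mul, ← pow_succ]
      rw [this, pow_succ, hn, zero_mul, cj_zero]
    have hU : Invariant X U := by
      intro x hx v hv b hb
      have h1 := hv _ (hJcj (⟨x, hx⟩ : X)⁻¹ b hb)
      have h2 : ι (⟨x, hx⟩ : X) (cj (⟨x, hx⟩ : X)⁻¹ b v) = 0 := by rw [h1, map_zero]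
      rw [← cj_app, ← cj_comp, mul_inv_cancel, cj_one] at h2
      exact h2
    have hUne : U ≠ ⊥ := by
      haveI : Nonempty {v : V // v ≠ 0} := let ⟨v, hv⟩ := exists_ne (0 : V); ⟨⟨v, hv⟩⟩
      obtain ⟨⟨v, hv⟩, hmax⟩ := Finite.exists_max
        fun v : {v : V // v ≠ 0} => Nat.card {b : J // (b : AddMonoid.End V) v = 0}
      intro hbot
      refine hv (AddSubgroup.mem_bot.1 (hbot ▸ (fun b hb => ?_ : v ∈ U)))
      by_contra hbv
      have hex : ∃ n, (b ^ n) v = 0 := by
        obtain ⟨n, hn⟩ := hb.2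
        exact ⟨n, by rw [hn]; rfl⟩
      set j := Nat.find hex with hj
      have hjs : (b ^ j) v = 0 := Nat.find_spec hex
      have hj2 : 2 ≤ j := by
        by_contra h
        rcases Nat.lt_or_ge j 1 with h1 | h1
        · rw [show j = 0 by omega, pow_zero] at hjs
          exact hv hjs
        · rw [show j = 1 by omega, pow_one] at hjs
          exact hbv hjs
      set v' := (b ^ (j - 1)) v with hv'
      have hv'0 : v' ≠ 0 := Nat.find_min hex (show j - 1 < j by omega)
      have hle := hmax ⟨v', hv'0⟩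
      refine absurd hle (not_le.2 ?_)
      let f : {c : J // (c : AddMonoid.End V) v = 0} → {c : J // (c : AddMonoid.End V) v' = 0} :=
        fun c => ⟨c.1, by
          show ((c.1 : AddMonoid.End V) * b ^ (j - 1)) v = 0
          rw [hcomm _ c.1.2.1 _ (pow_mem hb.1 _)]
          show (b ^ (j - 1)) ((c.1 : AddMonoid.End V) v) = 0
          rw [c.2, map_zero]⟩
      have hbv' : b v' = 0 := by
        show (b * b ^ (j - 1)) v = 0
        rw [← pow_succ', show j - 1 + 1 = j by omega, hjs]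
      have hfs : ¬ Function.Surjective f := fun hs => by
        obtain ⟨⟨c, hc⟩, hcb⟩ := hs ⟨⟨b, hb⟩, hbv'⟩
        have h' : c = ⟨b, hb⟩ := congrArg Subtype.val hcb
        subst h'
        exact hbv hc
      have hfi : Function.Injective f := fun a c h => Subtype.ext (congrArg Subtype.val h :)
      refine lt_of_le_of_ne (Nat.card_le_card_of_injective f hfi) fun he => hfs ?_
      exact ((Nat.bijective_iff_injective_and_card f).2 ⟨hfi, he⟩).2
    have hUtop : U = ⊤ := (hirr U hU).resolve_left hUne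
    intro b hb n hn
    exact DFunLike.ext _ _ fun v => (hUtop ▸ trivial : v ∈ U) b ⟨hb, n, hn⟩
  -- idempotents
  let Idem : AddMonoid.End V → Prop := fun e => e ∈ K ∧ e * e = e
  let Atom : AddMonoid.End V → Prop := fun e =>
    Idem e ∧ e ≠ 0 ∧ ∀ f, Idem f → e * f = f → f = 0 ∨ f = e
  have hbelow : ∀ n h, Idem h → h ≠ 0 → Nat.card {g // Idem g ∧ h * g = g} = n →
      ∃ f, Atom f ∧ h * f = f := by
    intro n
    induction n using Nat.strong_induction_on with
    | _ n ih =>
      intro h hh h0 hn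
      by_cases hat : Atom h
      · exact ⟨h, hat, hh.2⟩
      simp only [Atom, not_and, not_forall] at hat
      obtain ⟨g, hg, hhg, hgne⟩ := hat hh h0
      push Not at hgne
      let f : {k // Idem k ∧ g * k = k} → {k // Idem k ∧ h * k = k} := fun k =>
        ⟨k.1, k.2.1, by conv_lhs => rw [← k.2.2, ← mul_assoc, hhg]
                        exact k.2.2⟩
      have hfi : Function.Injective f := fun a c e => Subtype.ext (congrArg Subtype.val e :)
      have hlt : Nat.card {k // Idem k ∧ g * k = k} < n := by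
        refine lt_of_le_of_ne (hn ▸ Nat.card_le_card_of_injective f hfi) fun he => ?_
        obtain ⟨k, hk⟩ := ((Nat.bijective_iff_injective_and_card f).2 ⟨hfi, he.trans hn.symm⟩).2
          ⟨h, hh, hh.2⟩
        have hk' : (k : AddMonoid.End V) = h := congrArg Subtype.val hk
        refine hgne.2 ?_
        have h1 := k.2.2
        rw [hk', hcomm _ hg.1 _ hh.1, hhg] at h1
        exact h1
      obtain ⟨a, ha, hga⟩ := ih _ hlt g hg hgne.1 rfl
      exact ⟨a, ha, by rw [← hga, ← mul_assoc, hhg]⟩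
  let Ω := {e : AddMonoid.End V // Atom e}
  haveI : Fintype Ω := Fintype.ofFinite Ω
  have horth : ∀ a b : Ω, a ≠ b → (a : AddMonoid.End V) * b = 0 := by
    intro a b hab
    have hI : Idem ((a : AddMonoid.End V) * b) := ⟨mul_mem a.2.1.1 b.2.1.1, by
      rw [mul_assoc, ← mul_assoc (b : AddMonoid.End V), hcomm _ b.2.1.1 _ a.2.1.1, mul_assoc, b.2.1.2,
        ← mul_assoc, a.2.1.2]⟩
    have h1 := a.2.2.2 _ hI (by rw [← mul_assoc, a.2.1.2])
    have h2 := b.2.2.2 _ hI (by
      rw [← mul_assoc, hcomm _ b.2.1.1 _ a.2.1.1, mul_assoc, b.2.1.2])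
    rcases h1 with h1 | h1
    · exact h1
    rcases h2 with h2 | h2
    · exact h2
    exact absurd (Subtype.ext (h1.symm.trans h2)) hab
  set s : AddMonoid.End V := ∑ a : Ω, (a : AddMonoid.End V) with hs
  have hsmem : s ∈ K := sum_mem fun a _ => a.2.1.1
  have hsa : ∀ a : Ω, s * a = (a : AddMonoid.End V) := fun a => by
    rw [hs, Finset.sum_mul, Finset.sum_eq_single a (fun b _ hb => horth b a hb) (by simp), a.2.1.2]
  have hs1 : s = 1 := by
    by_contra hne
    have hss : s * s = s := by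
      conv_lhs => rw [hs, Finset.mul_sum]
      exact Finset.sum_congr rfl fun a _ => hsa a
    obtain ⟨a, ha, hxa⟩ := hbelow _ (1 - s)
      ⟨sub_mem (one_mem K) hsmem, by rw [mul_sub, mul_one, sub_mul, one_mul, hss, sub_self, sub_zero]⟩
      (sub_ne_zero.2 (Ne.symm hne)) rfl
    rw [sub_mul, one_mul, hsa ⟨a, ha⟩, sub_self] at hxa
    exact ha.2.1 hxa.symm
  have hdec : ∀ v : V, ∑ a : Ω, (a : AddMonoid.End V) v = v := fun v => by
    have h1 := DFunLike.congr_fun hs1 v
    rw [hs] at h1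
    exact (AddMonoidHom.finsetSum_apply _ _ _).symm.trans h1
  obtain ⟨k, hk0, hkk⟩ := exists_idem_pow r
  have hrk0 : r ^ k ≠ 0 := fun h => hr0 (hred r hrK k h)
  have hrk1 : r ^ k ≠ 1 := fun h => hrinj fun a b hab => by
    have h1 : ∀ c, (r ^ (k - 1)) (r c) = c := fun c => by
      show (r ^ (k - 1) * r) c = c
      rw [← pow_succ, show k - 1 + 1 = k by omega, h]
      rfl
    rw [← h1 a, hab, h1]
  obtain ⟨a₀, ha₀, hka₀⟩ := hbelow _ (r ^ k) ⟨pow_mem hrK k, hkk⟩ hrk0 rfl
  let e₀ : Ω := ⟨a₀, ha₀⟩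
  -- the action
  have hatom_cj : ∀ (g : X) e, Atom e → Atom (cj g e) := by
    rintro g e ⟨⟨heK, hee⟩, he0, hmin⟩
    refine ⟨⟨cj_mem g e heK, by rw [← cj_mul, hee]⟩,
      fun h => he0 (by rw [← cj_inv g e, h, cj_zero]), fun f hf hef => ?_⟩
    have h1 := hmin (cj g⁻¹ f) ⟨cj_mem _ f hf.1, by rw [← cj_mul, hf.2]⟩ (by
      have := congrArg (cj g⁻¹) hef
      rwa [cj_mul, cj_inv] at this)
    have hf' : cj g (cj g⁻¹ f) = f := by rw [← cj_comp, mul_inv_cancel, cj_one]
    rcases h1 with h1 | h1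
    · exact Or.inl (by rw [← hf', h1, cj_zero])
    · exact Or.inr (by rw [← hf', h1])
  letI : MulAction X Ω :=
    { smul := fun g e => ⟨cj g e, hatom_cj g e e.2⟩
      one_smul := fun e => Subtype.ext (cj_one _)
      mul_smul := fun g h e => Subtype.ext (cj_comp g h _) }
  have hact : ∀ (g : X) (e : Ω) v, ((g • e : Ω) : AddMonoid.End V) (ι g v) = ι g ((e : AddMonoid.End V) v) :=
    fun g e v => cj_app g e v
  have hnz : ∀ e : Ω, ∃ v, (e : AddMonoid.End V) v ≠ 0 := fun e => by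
    by_contra h
    push Not at h
    exact e.2.2.1 (DFunLike.ext _ _ h)
  have hee : ∀ (e : Ω) v, (e : AddMonoid.End V) ((e : AddMonoid.End V) v) = (e : AddMonoid.End V) v := fun e v =>
    DFunLike.congr_fun e.2.1.2 v
  have hef : ∀ (e f : Ω) v, e ≠ f → (e : AddMonoid.End V) ((f : AddMonoid.End V) v) = 0 := fun e f v h =>
    DFunLike.congr_fun (horth e f h) v
  have htrans : ∀ f : Ω, ∃ g : X, g • e₀ = f := by
    let U : AddSubgroup V :=
      { carrier := {v | ∀ f : Ω, f ∉ MulAction.orbit X e₀ → (f : AddMonoid.End V) v = 0}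
        zero_mem' := fun f _ => map_zero _
        add_mem' := fun ha hb f h => by rw [map_add, ha f h, hb f h, add_zero]
        neg_mem' := fun ha f h => by rw [map_neg, ha f h, neg_zero] }
    have hU : Invariant X U := by
      intro x hx v hv f hf
      set g : X := ⟨x, hx⟩
      have h1 := hv (g⁻¹ • f) (fun h => hf (by
        have := MulAction.mem_orbit_of_mem_orbit g h
        rwa [smul_inv_smul] at this))
      have h2 := hact g (g⁻¹ • f) v
      rw [smul_inv_smul, h1, map_zero] at h2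
      exact h2
    have hUtop : U = ⊤ := (hirr U hU).resolve_left fun hb => by
      obtain ⟨v, hv⟩ := hnz e₀
      refine hv (AddSubgroup.mem_bot.1 (hb ▸ (fun f hf => hef f e₀ v ?_ : (e₀ : AddMonoid.End V) v ∈ U)))
      rintro rfl
      exact hf (MulAction.mem_orbit_self _)
    intro f
    by_contra hf
    obtain ⟨v, hv⟩ := hnz f
    exact hv ((hUtop ▸ trivial : v ∈ U) f hf)
  choose g hg using htrans
  -- the block
  let U₀ : AddSubgroup V :=
    { carrier := {v | (e₀ : AddMonoid.End V) v = v}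
      zero_mem' := map_zero _
      add_mem' := fun ha hb => by
        show (e₀ : AddMonoid.End V) (_ + _) = _
        rw [map_add, ha, hb]
      neg_mem' := fun ha => by
        show (e₀ : AddMonoid.End V) (-_) = _
        rw [map_neg, ha] }
  have hU₀lt : Nat.card U₀ < Nat.card V := by
    obtain ⟨v, hv⟩ : ∃ v, v ∉ U₀ := by
      by_contra h
      push Not at h
      have h1 : a₀ = 1 := DFunLike.ext _ _ h
      refine hrk1 ?_
      rwa [h1, mul_one] at hka₀
    exact Finite.card_subtype_lt hv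
  let H : Subgroup (Aut1 V) := (MulAction.stabilizer X e₀).map X.subtype
  have hHinv : Invariant H U₀ := by
    rintro _ ⟨h, hh, rfl⟩ v hv
    have h1 := hact h e₀ v
    rw [show h • e₀ = e₀ from hh, show (e₀ : AddMonoid.End V) v = v from hv] at h1
    exact h1
  have hHX : H ≤ X := Subgroup.map_subtype_le _
  haveI : Group.IsSolvable H := Group.isSolvable_of_isSolvable_injective (Subgroup.inclusion_injective hHX)
  have hHodd : Odd (Nat.card H) := hodd.of_dvd_nat (Subgroup.card_dvd_of_le hHX)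
  let R := restrict H U₀ hHinv
  have hRsolv : Group.IsSolvable R.range := Group.isSolvable_of_surjective R.rangeRestrict_surjective
  have hRodd : Odd (Nat.card R.range) := odd_of_surjective _ R.rangeRestrict_surjective hHodd
  -- components
  have hpiece : ∀ (gg : X) (e : Ω), gg • e₀ = e → ∀ u ∈ U₀, (e : AddMonoid.End V) (ι gg u) = ι gg u := by
    intro gg e he u hu
    rw [← he, hact, show (e₀ : AddMonoid.End V) u = u from hu]
  have hback : ∀ (e : Ω) v, ι (g e)⁻¹ ((e : AddMonoid.End V) v) ∈ U₀ := by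
    intro e v
    show (e₀ : AddMonoid.End V) _ = _
    have h1 := hact (g e)⁻¹ e ((e : AddMonoid.End V) v)
    rw [hee, inv_smul_eq_iff.2 (hg e).symm] at h1
    exact h1
  have hRirr : Irred R.range := by
    intro W hW
    by_cases hWbot : W = ⊥
    · exact Or.inl hWbot
    refine Or.inr (eq_top_iff.2 fun u _ => ?_)
    have hWH : ∀ (h : X), h • e₀ = e₀ → ∀ w ∈ W.map U₀.subtype, ι h w ∈ W.map U₀.subtype := by
      rintro h hh _ ⟨w, hw, rfl⟩
      exact ⟨_, hW _ ⟨⟨(h : Aut1 V), h, hh, rfl⟩, rfl⟩ w hw, rfl⟩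
    let T : AddSubgroup V :=
      { carrier := {v | ∀ e : Ω, ι (g e)⁻¹ ((e : AddMonoid.End V) v) ∈ W.map U₀.subtype}
        zero_mem' := fun e => by rw [map_zero, map_zero]; exact zero_mem _
        add_mem' := fun ha hb e => by rw [map_add, map_add]; exact add_mem (ha e) (hb e)
        neg_mem' := fun ha e => by rw [map_neg, map_neg]; exact neg_mem (ha e) }
    have hT : Invariant X T := by
      intro x hx v hv e
      set gg : X := ⟨x, hx⟩
      have h1 := hact gg (gg⁻¹ • e) v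
      rw [smul_inv_smul] at h1
      show ι (g e)⁻¹ ((e : AddMonoid.End V) (ι gg v)) ∈ _
      rw [h1]
      have h2 := hv (gg⁻¹ • e)
      have h3 := hWH ((g e)⁻¹ * gg * g (gg⁻¹ • e)) (by
        rw [mul_smul, mul_smul, hg, smul_inv_smul, inv_smul_eq_iff.2 (hg e).symm]) _ h2
      rw [map_mul, map_mul] at h3
      change ι (g e)⁻¹ (ι gg (ι (g (gg⁻¹ • e)) (ι (g (gg⁻¹ • e))⁻¹ _))) ∈ _ at h3
      rwa [show ∀ (a : X) y, ι a (ι a⁻¹ y) = y from fun a y => by
        show (ι a * ι a⁻¹) y = y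
        rw [← map_mul, mul_inv_cancel, map_one]; rfl] at h3
    have hTtop : T = ⊤ := (hirr T hT).resolve_left fun hb => by
      obtain ⟨w, hw, hw0⟩ := (AddSubgroup.bot_or_exists_ne_zero W).resolve_left hWbot
      refine hw0 (Subtype.ext (AddSubgroup.mem_bot.1 (hb ▸ (fun e => ?_ : (w : V) ∈ T))))
      by_cases he : e = e₀
      · subst he
        rw [show (e₀ : AddMonoid.End V) (w : V) = w from w.2]
        exact hWH _ (inv_smul_eq_iff.2 (hg e₀).symm) _ ⟨w, hw, rfl⟩
      · rw [show (e : AddMonoid.End V) (w : V) = 0 by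
          rw [← show (e₀ : AddMonoid.End V) (w : V) = w from w.2]; exact hef e e₀ _ he, map_zero]
        exact zero_mem _
    have h1 := (hTtop ▸ trivial : (u : V) ∈ T) e₀
    rw [show (e₀ : AddMonoid.End V) (u : V) = u from u.2] at h1
    have h2 := hWH (g e₀) (hg e₀) _ h1
    have h3 : ι (g e₀) (ι (g e₀)⁻¹ (u : V)) = u := by
      show (ι (g e₀) * ι (g e₀)⁻¹) (u : V) = u
      rw [← map_mul, mul_inv_cancel, map_one]; rfl
    rw [h3] at h2
    obtain ⟨w, hw, hwu⟩ := h2
    rwa [Subtype.ext hwu] at hw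
  haveI : Nontrivial U₀ := by
    obtain ⟨v, hv⟩ := hnz e₀
    exact ⟨⟨⟨_, hee e₀ v⟩, 0, fun h => hv (congrArg Subtype.val h)⟩⟩
  obtain ⟨P₀, P₁, hP₀, hP₁, h01, h10⟩ :=
    exists_two_pairs R.range hRodd (hsmall U₀ hU₀lt R.range hRodd hRsolv hRirr.cr)
  -- the permutation group
  let σ := MulAction.toPermHom X Ω
  obtain ⟨B, hB⟩ := gluck σ.range (odd_of_surjective σ.rangeRestrict σ.rangeRestrict_surjective hodd)
    (Group.isSolvable_of_surjective σ.rangeRestrict_surjective)
  let P : Ω → U₀ × U₀ := fun e => if e ∈ B then P₀ else P₁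
  have hcomp : ∀ (Q : Ω → U₀) (e : Ω), (e : AddMonoid.End V) (∑ f : Ω, ι (g f) (Q f : V)) = ι (g e) (Q e : V) := by
    intro Q e
    rw [map_sum, Finset.sum_eq_single e]
    · exact hpiece _ _ (hg e) _ (Q e).2
    · intro f _ hfe
      rw [← hpiece _ _ (hg f) _ (Q f).2]
      exact hef e f _ hfe.symm
    · simp
  refine ⟨∑ f : Ω, ι (g f) ((P f).1 : V), ∑ f : Ω, ι (g f) ((P f).2 : V), fun x hx h1 h2 => ?_⟩
  set gx : X := ⟨x, hx⟩ with hgx
  have hh : ∀ e : Ω, (g (gx • e))⁻¹ * gx * g e ∈ MulAction.stabilizer X e₀ := fun e => by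
    show _ • e₀ = e₀
    rw [mul_smul, mul_smul, hg, inv_smul_eq_iff, hg]
  have hkey : ∀ (Q : Ω → U₀), ι gx (∑ f : Ω, ι (g f) (Q f : V)) = ∑ f : Ω, ι (g f) (Q f : V) →
      ∀ e : Ω, ((R ⟨_, _, hh e, rfl⟩ : Aut1 U₀) : AddMonoid.End U₀) (Q e) = Q (gx • e) := by
    intro Q hQ e
    apply Subtype.ext
    rw [restrict_apply]
    show ι ((g (gx • e))⁻¹ * gx * g e) (Q e : V) = _
    rw [map_mul, map_mul]
    show ι (g (gx • e))⁻¹ (ι gx (ι (g e) (Q e : V))) = _
    rw [← hcomp Q e, ← hact, hQ, hcomp]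
    exact inv_apply_apply _ _
  have k1 := hkey (fun f => (P f).1) h1
  have k2 := hkey (fun f => (P f).2) h2
  have hflip : ∀ e, (gx • e ∈ B ↔ e ∈ B) := by
    intro e
    have a1 := k1 e
    have a2 := k2 e
    by_cases he : e ∈ B <;> by_cases he' : gx • e ∈ B <;> simp only [P, he, he', if_true, if_false] at a1 a2 ⊢
    · exact (h01 _ ⟨_, rfl⟩ a1 a2).elim
    · exact (h10 _ ⟨_, rfl⟩ a1 a2).elim
  have hσ : σ gx = 1 := hB _ ⟨gx, rfl⟩ hflip
  have hfix : ∀ e, gx • e = e := fun e => Equiv.congr_fun hσ e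
  refine Units.ext (DFunLike.ext _ _ fun v => ?_)
  show ι gx v = v
  conv_lhs => rw [← hdec v, map_sum]
  conv_rhs => rw [← hdec v]
  refine Finset.sum_congr rfl fun e _ => ?_
  set R' : Aut1 U₀ := R ⟨_, _, hh e, rfl⟩ with hR'
  have a1 : (R' : AddMonoid.End U₀) (P e).1 = (P e).1 := (k1 e).trans (by rw [hfix e])
  have a2 : (R' : AddMonoid.End U₀) (P e).2 = (P e).2 := (k2 e).trans (by rw [hfix e])
  have hR1 : R' = 1 := by
    by_cases he : e ∈ B <;> simp only [P, he, if_true, if_false] at a1 a2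
    · exact hP₀ _ ⟨_, rfl⟩ a1 a2
    · exact hP₁ _ ⟨_, rfl⟩ a1 a2
  have h3 : ((R' : AddMonoid.End U₀) ⟨_, hback e v⟩ : V) = ι (g e)⁻¹ ((e : AddMonoid.End V) v) := by
    rw [hR1]; rfl
  rw [hR', restrict_apply] at h3
  change ι ((g (gx • e))⁻¹ * gx * g e) (ι (g e)⁻¹ ((e : AddMonoid.End V) v)) = _ at h3
  rw [hfix e, map_mul, map_mul] at h3
  change ι (g e)⁻¹ (ι gx (ι (g e) (ι (g e)⁻¹ ((e : AddMonoid.End V) v)))) = _ at h3
  have h4 : ι (g e) (ι (g e)⁻¹ ((e : AddMonoid.End V) v)) = (e : AddMonoid.End V) v := by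
    show (ι (g e) * ι (g e)⁻¹) _ = _
    rw [← map_mul, mul_inv_cancel, map_one]; rfl
  rw [h4] at h3
  exact aut_injective (((g e)⁻¹ : X) : Aut1 V) h3

theorem hasPair_aux : ∀ (n : ℕ) (V : Type u) [AddCommGroup V] [Finite V], Nat.card V = n →
    ∀ X : Subgroup (Aut1 V), Odd (Nat.card X) → Group.IsSolvable X → CR X → HasPair X := by
  intro n
  induction n using Nat.strong_induction_on with
  | _ n ih => ?_
  intro V _ _ hn X hodd hsolv hcr
  classical
  have hsmall : ∀ (W : Type u) [AddCommGroup W] [Finite W], Nat.card W < Nat.card V →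
      ∀ Y : Subgroup (Aut1 W), Odd (Nat.card Y) → Group.IsSolvable Y → CR Y → HasPair Y :=
    fun W _ _ h Y => ih _ (hn ▸ h) W rfl Y
  rcases subsingleton_or_nontrivial V with hV | hV
  · exact ⟨0, 0, fun x _ _ _ => Units.ext (DFunLike.ext _ _ fun v => Subsingleton.elim _ _)⟩
  haveI := hsolv
  by_cases hirr : Irred X
  · by_cases hfield : ∀ N : Subgroup X, N.Normal → (∀ a ∈ N, ∀ b ∈ N, a * b = b * a) →
      ∀ r ∈ Subring.closure ((fun g : X => ((g : Aut1 V) : AddMonoid.End V)) '' (N : Set X)),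
        r ≠ 0 → Function.Injective r
    · exact primitive_pair X hodd hfield hsmall
    · push Not at hfield
      obtain ⟨N, hN, hNc, r, hr, hr0, hrinj⟩ := hfield
      exact imprimitive_pair X hodd hirr N hN hNc r hr hr0 hrinj hsmall
  · simp only [Irred, not_forall] at hirr
    obtain ⟨U, hU, hUne⟩ := hirr
    push Not at hUne
    obtain ⟨U', hU', hinf, hsup⟩ := hcr U hU
    have hU'ne : U' ≠ ⊤ := fun h => hUne.1 (by rw [h, inf_top_eq] at hinf; exact hinf)
    have hlt : ∀ {W : AddSubgroup V}, W ≠ ⊤ → Nat.card W < Nat.card V := fun {W} hW => by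
      obtain ⟨v, hv⟩ : ∃ v, v ∉ W := by
        by_contra h
        push Not at h
        exact hW (eq_top_iff.2 fun v _ => h v)
      exact Finite.card_subtype_lt hv
    have get : ∀ (W : AddSubgroup V) (hW : Invariant X W), W ≠ ⊤ → HasPair (restrict X W hW).range :=
      fun W hW hne => hsmall W (hlt hne) _
        (odd_of_surjective _ (restrict X W hW).rangeRestrict_surjective hodd)
        (Group.isSolvable_of_surjective (restrict X W hW).rangeRestrict_surjective)
        (cr_restrict X hcr W hW)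
    obtain ⟨v₁, w₁, h₁⟩ := get U hU hUne.2
    obtain ⟨v₂, w₂, h₂⟩ := get U' hU' hU'ne
    refine ⟨(v₁ : V) + v₂, (w₁ : V) + w₂, fun x hx hv hw => ?_⟩
    have split : ∀ (a : U) (b : U'), (x : AddMonoid.End V) ((a : V) + b) = (a : V) + b →
        (x : AddMonoid.End V) (a : V) = a ∧ (x : AddMonoid.End V) (b : V) = b := by
      intro a b h
      rw [map_add] at h
      have h' : (x : AddMonoid.End V) (a : V) - a = b - (x : AddMonoid.End V) b :=
        sub_eq_sub_iff_add_eq_add.2 (h.trans (add_comm _ _))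
      have hm : (x : AddMonoid.End V) (a : V) - a ∈ U ⊓ U' :=
        ⟨U.sub_mem (hU x hx a a.2) a.2, by rw [h']; exact U'.sub_mem b.2 (hU' x hx b b.2)⟩
      rw [hinf, AddSubgroup.mem_bot] at hm
      exact ⟨sub_eq_zero.1 hm, (sub_eq_zero.1 (h'.symm.trans hm)).symm⟩
    obtain ⟨a1, b1⟩ := split v₁ v₂ hv
    obtain ⟨a2, b2⟩ := split w₁ w₂ hw
    have e1 := h₁ _ ⟨⟨x, hx⟩, rfl⟩ (Subtype.ext a1) (Subtype.ext a2)
    have e2 := h₂ _ ⟨⟨x, hx⟩, rfl⟩ (Subtype.ext b1) (Subtype.ext b2)
    refine Units.ext (DFunLike.ext _ _ fun z => ?_)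
    obtain ⟨p, hp, q, hq, rfl⟩ := AddSubgroup.mem_sup.1 (hsup ▸ trivial : z ∈ U ⊔ U')
    have f1 : (x : AddMonoid.End V) p = p :=
      congrArg (fun y : Aut1 U => ((y : AddMonoid.End U) ⟨p, hp⟩ : V)) e1
    have f2 : (x : AddMonoid.End V) q = q :=
      congrArg (fun y : Aut1 U' => ((y : AddMonoid.End U') ⟨q, hq⟩ : V)) e2
    rw [map_add, f1, f2]
    rfl

/-- Two vectors with trivial common stabiliser. -/
theorem exists_pair {A : Type v} {V : Type u} [Group A] [Finite A] [AddCommGroup V] [Finite V]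
    [DistribMulAction A V] [FaithfulSMul A V] (hA : Odd (Nat.card A)) (hsolv : Group.IsSolvable A)
    (hcr : ∀ U : AddSubgroup V, (∀ a : A, ∀ v ∈ U, a • v ∈ U) → ∃ W : AddSubgroup V,
      (∀ a : A, ∀ w ∈ W, a • w ∈ W) ∧ U ⊓ W = ⊥ ∧ U ⊔ W = ⊤) :
    ∃ v w : V, ∀ a : A, a • v = v → a • w = w → a = 1 := by
  haveI := hsolv
  let ρ : A →* Aut1 V := (DistribMulAction.toAddMonoidEnd A V).toHomUnits
  have hρ : ∀ a v, (ρ a : AddMonoid.End V) v = a • v := fun _ _ => rfl
  have hinj : Function.Injective ρ := fun a b h => FaithfulSMul.eq_of_smul_eq_smul (α := V) fun v => by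
    rw [← hρ, h, hρ]
  have hcr' : CR ρ.range := fun U hU => by
    obtain ⟨W, hW, h1, h2⟩ := hcr U fun a v hv => hU (ρ a) ⟨a, rfl⟩ v hv
    exact ⟨W, fun x hx v hv => by obtain ⟨a, rfl⟩ := hx; exact hW a v hv, h1, h2⟩
  obtain ⟨v, w, h⟩ := hasPair_aux _ V rfl ρ.range
    (odd_of_surjective _ ρ.rangeRestrict_surjective hA)
    (Group.isSolvable_of_surjective ρ.rangeRestrict_surjective) hcr'
  exact ⟨v, w, fun a h1 h2 => hinj ((h _ ⟨a, rfl⟩ h1 h2).trans (map_one ρ).symm)⟩

end Cfsg.Agent.PairBase
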