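import Mathlib

/-!
Groups of automorphisms of a finite abelian group: fixed points, complements, counting.
-/

set_option autoImplicit false
set_option linter.unusedSectionVars false

namespace Cfsg.Agent.PairBase

open scoped BigOperators

/-- The automorphisms of an abelian group, as units of its endomorphism ring. -/
abbrev Aut1 (V : Type*) [AddCommGroup V] := (AddMonoid.End V)ˣ

variable {V : Type*} [AddCommGroup V]

theorem mul_apply' (a b : Aut1 V) (v : V) :
    ((a * b : Aut1 V) : AddMonoid.End V) v = (a : AddMonoid.End V) ((b : AddMonoid.End V) v) := rfl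

theorem one_apply' (v : V) : ((1 : Aut1 V) : AddMonoid.End V) v = v := rfl

theorem inv_apply_apply (a : Aut1 V) (v : V) :
    ((a⁻¹ : Aut1 V) : AddMonoid.End V) ((a : AddMonoid.End V) v) = v := by
  rw [← mul_apply', inv_mul_cancel, one_apply']

theorem aut_injective (a : Aut1 V) : Function.Injective ((a : AddMonoid.End V) : V → V) :=
  fun x y h => by simpa [inv_apply_apply] using congrArg ((a⁻¹ : Aut1 V) : AddMonoid.End V) h

theorem finite_end [Finite V] : Finite (AddMonoid.End V) :=
  Finite.of_injective (fun f : AddMonoid.End V => (f : V → V)) DFunLike.coe_injective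

instance [Finite V] : Finite (AddMonoid.End V) := finite_end

instance [Finite V] : Finite (Aut1 V) :=
  Finite.of_injective (fun a : Aut1 V => (a : AddMonoid.End V)) fun _ _ h => Units.ext h

/-- Invariant subgroups. -/
def Invariant (X : Subgroup (Aut1 V)) (U : AddSubgroup V) : Prop :=
  ∀ x ∈ X, ∀ v ∈ U, (x : AddMonoid.End V) v ∈ U

/-- Every invariant subgroup has an invariant complement. -/
def CR (X : Subgroup (Aut1 V)) : Prop :=
  ∀ U : AddSubgroup V, Invariant X U → ∃ U' : AddSubgroup V, Invariant X U' ∧ U ⊓ U' = ⊥ ∧ U ⊔ U' = ⊤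

/-- No proper nonzero invariant subgroup. -/
def Irred (X : Subgroup (Aut1 V)) : Prop :=
  ∀ U : AddSubgroup V, Invariant X U → U = ⊥ ∨ U = ⊤

theorem Irred.cr {X : Subgroup (Aut1 V)} (h : Irred X) : CR X := fun U hU => by
  rcases h U hU with rfl | rfl
  · exact ⟨⊤, fun _ _ _ _ => trivial, by simp, by simp⟩
  · exact ⟨⊥, fun x _ v hv => by
      rw [AddSubgroup.mem_bot] at hv ⊢
      rw [hv, map_zero], by simp, by simp⟩

/-- Two vectors fixed simultaneously only by the identity. -/
def HasPair (X : Subgroup (Aut1 V)) : Prop :=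
  ∃ v w : V, ∀ x ∈ X, (x : AddMonoid.End V) v = v → (x : AddMonoid.End V) w = w → x = 1

/-- The fixed points of a set of automorphisms. -/
def fixedAdd (S : Set (Aut1 V)) : AddSubgroup V where
  carrier := {v | ∀ s ∈ S, (s : AddMonoid.End V) v = v}
  zero_mem' := fun _ _ => map_zero _
  add_mem' := fun ha hb s hs => by rw [map_add, ha s hs, hb s hs]
  neg_mem' := fun ha s hs => by rw [map_neg, ha s hs]

theorem mem_fixedAdd {S : Set (Aut1 V)} {v : V} :
    v ∈ fixedAdd S ↔ ∀ s ∈ S, (s : AddMonoid.End V) v = v := Iff.rfl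

theorem fixedAdd_invariant (X N : Subgroup (Aut1 V))
    (hn : ∀ x ∈ X, ∀ n ∈ N, x⁻¹ * n * x ∈ N) : Invariant X (fixedAdd (N : Set (Aut1 V))) := by
  intro x hx v hv n hn'
  have h := hv _ (hn x hx n hn')
  rw [mul_apply', mul_apply'] at h
  have h2 := congrArg (x : AddMonoid.End V) h
  rwa [← mul_apply' x, mul_inv_cancel, one_apply'] at h2

/-- A `p`-group of automorphisms of a nontrivial `p`-group fixes a nonzero vector. -/
theorem exists_fixed_of_pgroup [Finite V] {p : ℕ} [Fact p.Prime] (N : Subgroup (Aut1 V))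
    (hN : IsPGroup p N) (U : AddSubgroup V) (hU : Invariant N U) (hUne : U ≠ ⊥)
    (hdvd : p ∣ Nat.card U) : ∃ v ∈ U, v ≠ 0 ∧ ∀ n ∈ N, (n : AddMonoid.End V) v = v := by
  letI : MulAction N U :=
    { smul := fun n v => ⟨((n : Aut1 V) : AddMonoid.End V) v, hU n n.2 v v.2⟩
      one_smul := fun v => rfl
      mul_smul := fun a b v => rfl }
  have hzero : (0 : U) ∈ MulAction.fixedPoints N U := fun n => Subtype.ext (map_zero _)
  obtain ⟨v, hv, hv0⟩ := hN.exists_fixed_point_of_prime_dvd_card_of_fixed_point U hdvd hzero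
  exact ⟨v, v.2, fun h => hv0 (Subtype.ext h.symm), fun n hn => congrArg Subtype.val (hv ⟨n, hn⟩)⟩

/-- A completely reducible group has no nontrivial normal subgroup of the characteristic. -/
theorem normal_pgroup_trivial [Finite V] {p : ℕ} [Fact p.Prime] (hV : ∀ v : V, p • v = 0)
    (X N : Subgroup (Aut1 V)) (hNX : N ≤ X) (hn : ∀ x ∈ X, ∀ n ∈ N, x⁻¹ * n * x ∈ N)
    (hN : IsPGroup p N) (hcr : CR X) : N = ⊥ := by
  obtain ⟨L, hL, hinf, hsup⟩ := hcr _ (fixedAdd_invariant X N hn)
  have hLbot : L = ⊥ := by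
    by_contra hne
    have hdvd : p ∣ Nat.card L := by
      obtain ⟨l, hl, hl0⟩ := (AddSubgroup.bot_or_exists_ne_zero L).resolve_left hne
      have h1 : addOrderOf (⟨l, hl⟩ : L) = p :=
        addOrderOf_eq_prime (Subtype.ext (hV l)) (fun h => hl0 (congrArg Subtype.val h))
      rw [← h1]
      exact addOrderOf_dvd_natCard _
    obtain ⟨v, hv, hv0, hfix⟩ := exists_fixed_of_pgroup N hN L (fun n hn' => hL n (hNX hn')) hne hdvd
    have : v ∈ fixedAdd (N : Set (Aut1 V)) ⊓ L := ⟨hfix, hv⟩
    rw [hinf, AddSubgroup.mem_bot] at this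
    exact hv0 this
  rw [hLbot, sup_bot_eq] at hsup
  refine eq_bot_iff.2 fun n hn' => Subgroup.mem_bot.2 (Units.ext ?_)
  refine DFunLike.ext _ _ fun v => ?_
  exact (hsup ▸ trivial : v ∈ fixedAdd (N : Set (Aut1 V))) n hn'

/-- Odd order: `g ^ 2 = 1` forces `g = 1`. -/
theorem eq_one_of_sq {G : Type*} [Group G] (hG : Odd (Nat.card G)) {g : G} (h : g * g = 1) :
    g = 1 := by
  obtain ⟨k, hk⟩ := hG
  have h1 : g ^ Nat.card G = 1 := pow_card_eq_one'
  rwa [hk, pow_succ, pow_mul, pow_two, h, one_pow, one_mul] at h1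

theorem odd_of_dvd {m n : ℕ} (hn : Odd n) (h : m ∣ n) : Odd m := hn.of_dvd_nat h

theorem odd_subgroup {G : Type*} [Group G] (hG : Odd (Nat.card G)) (H : Subgroup G) :
    Odd (Nat.card H) := odd_of_dvd hG H.card_subgroup_dvd_card

theorem odd_of_surjective {G H : Type*} [Group G] [Group H] (f : G →* H)
    (hf : Function.Surjective f) (hG : Odd (Nat.card G)) : Odd (Nat.card H) :=
  odd_of_dvd hG (Subgroup.card_dvd_of_surjective f hf)

/-- In a group of odd order a bad point is fixed by two nontrivial elements. -/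
theorem exists_unfixed {G S : Type*} [Group G] [Finite G] [Finite S] [Nonempty S] [MulAction G S]
    (hG : Odd (Nat.card G)) (B : ℕ)
    (hB : ∀ g : G, g ≠ 1 → Nat.card {s : S // g • s = s} ≤ B)
    (h : Nat.card G * B ≤ 2 * Nat.card S) : ∃ s : S, ∀ g : G, g • s = s → g = 1 := by
  classical
  by_contra hne
  push_neg at hne
  haveI := Fintype.ofFinite G
  haveI := Fintype.ofFinite S
  have h2 : ∀ s : S, 2 ≤ ((Finset.univ.erase (1 : G)).filter fun g => g • s = s).card := by
    intro s
    obtain ⟨g, hgs, hg1⟩ := hne s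
    refine Finset.one_lt_card.2 ⟨g, ?_, g⁻¹, ?_, ?_⟩
    · simp [hg1, hgs]
    · simp only [Finset.mem_filter, Finset.mem_erase, Finset.mem_univ, and_true, ne_eq,
        inv_eq_one]
      exact ⟨hg1, by rw [inv_smul_eq_iff, hgs]⟩
    · intro he
      exact hg1 (eq_one_of_sq hG (mul_eq_one_iff_eq_inv.2 he))
  have hsum := Finset.sum_le_sum (s := (Finset.univ : Finset S)) fun s _ => h2 s
  rw [Finset.sum_const, Finset.card_univ, smul_eq_mul] at hsum
  have hswap : ∑ s : S, ((Finset.univ.erase (1 : G)).filter fun g => g • s = s).card =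
      ∑ g ∈ Finset.univ.erase (1 : G), (Finset.univ.filter fun s : S => g • s = s).card := by
    simp only [Finset.card_filter]
    exact Finset.sum_comm
  rw [hswap] at hsum
  have hle := Finset.sum_le_card_nsmul (Finset.univ.erase (1 : G))
    (fun g => (Finset.univ.filter fun s : S => g • s = s).card) B fun g hg => by
      have := hB g (Finset.ne_of_mem_erase hg)
      rw [Nat.card_eq_fintype_card, Fintype.card_subtype] at this
      exact this
  rw [Finset.card_erase_of_mem (Finset.mem_univ _), Finset.card_univ, smul_eq_mul] at hle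
  have hSpos : 0 < Nat.card S := Nat.card_pos
  rw [Nat.card_eq_fintype_card (α := G), Nat.card_eq_fintype_card (α := S)] at h
  rw [Nat.card_eq_fintype_card] at hSpos
  have hGpos : 0 < Fintype.card G := Fintype.card_pos
  rcases Nat.eq_zero_or_pos B with hB0 | hB0
  · subst hB0
    omega
  · have : (Fintype.card G - 1) * B < Fintype.card G * B :=
      Nat.mul_lt_mul_of_pos_right (by omega) hB0
    omega

theorem card_dvd_gl_module [Finite V] {r k : ℕ} [Fact r.Prime] [Module (ZMod r) V]
    (hk : Nat.card V = r ^ k) (X : Subgroup (Aut1 V)) :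
    Nat.card X ∣ ∏ i : Fin k, (r ^ k - r ^ (i : ℕ)) := by
  classical
  have hF : Module.Finite (ZMod r) V := Module.Finite.of_finite
  have hd : Module.finrank (ZMod r) V = k := by
    have : Nat.card V = r ^ Module.finrank (ZMod r) V := by
      rw [Module.natCard_eq_pow_finrank (K := ZMod r), Nat.card_zmod]
    rw [hk] at this
    exact (Nat.pow_right_injective (Fact.out : r.Prime).two_le this).symm
  let b := (Module.finBasis (ZMod r) V).reindex (finCongr hd)
  let f : AddMonoid.End V →* Matrix (Fin k) (Fin k) (ZMod r) :=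
    { toFun := fun φ => LinearMap.toMatrixAlgEquiv b (AddMonoidHom.toZModLinearMap r φ)
      map_one' := by
        rw [← map_one (LinearMap.toMatrixAlgEquiv b)]; rfl
      map_mul' := fun φ ψ => by
        rw [← map_mul]; rfl }
  have hf : Function.Injective f := fun φ ψ h =>
    DFunLike.ext _ _ fun v => LinearMap.congr_fun ((LinearMap.toMatrixAlgEquiv b).injective h) v
  let F : Aut1 V →* GL (Fin k) (ZMod r) := Units.map f
  have hF : Function.Injective F := fun a b h => Units.ext (hf (congrArg Units.val h))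
  have h1 : Nat.card X ∣ Nat.card (GL (Fin k) (ZMod r)) :=
    Subgroup.card_dvd_of_injective (F.comp X.subtype) (hF.comp X.subtype_injective)
  rwa [Matrix.card_GL_field, ZMod.card] at h1

/-- The automorphism group of an elementary abelian group is that of a vector space. -/
theorem card_dvd_gl [Finite V] {r k : ℕ} [Fact r.Prime] (hr : ∀ v : V, r • v = 0)
    (hk : Nat.card V = r ^ k) (X : Subgroup (Aut1 V)) :
    Nat.card X ∣ ∏ i : Fin k, (r ^ k - r ^ (i : ℕ)) :=
  @card_dvd_gl_module V _ _ r k _ (AddCommGroup.zmodModule hr) hk X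

/-- Coprime order: an element of prime order fixing modulo. -/
theorem card_modEq_fixed [Finite V] {s : ℕ} [Fact s.Prime] (g : Aut1 V) (hg : orderOf g = s) :
    Nat.card V ≡ Nat.card (fixedAdd ({g} : Set (Aut1 V))) [MOD s] := by
  letI : MulAction (Subgroup.zpowers g) V :=
    { smul := fun n v => ((n : Aut1 V) : AddMonoid.End V) v
      one_smul := fun v => rfl
      mul_smul := fun a b v => rfl }
  have hP : IsPGroup s (Subgroup.zpowers g) :=
    IsPGroup.of_card (n := 1) (by rw [Nat.card_zpowers, hg, pow_one])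
  refine (hP.card_modEq_card_fixedPoints V).trans ?_
  suffices h : Nat.card (MulAction.fixedPoints (Subgroup.zpowers g) V) =
      Nat.card (fixedAdd ({g} : Set (Aut1 V))) by rw [h]
  refine Nat.card_congr (Equiv.subtypeEquivRight fun v => ?_)
  constructor
  · intro h s hs
    rw [Set.mem_singleton_iff] at hs
    subst hs
    exact h ⟨s, Subgroup.mem_zpowers _⟩
  · intro h n
    have hst : g ∈ (MulAction.stabilizer (Aut1 V) v) := h g rfl
    exact MulAction.mem_stabilizer_iff.1 (Subgroup.zpowers_le.2 hst n.2)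

end Cfsg.Agent.PairBase
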