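import Cfsg.Agent.PairBase.Basic

/-!
Alternating bicharacters on finite abelian groups and the small symplectic groups.
-/

set_option autoImplicit false
set_option linter.unusedSectionVars false

namespace Cfsg.Agent.PairBase

/-- A nondegenerate alternating bicharacter lives on a group of square order. -/
theorem square_aux {W : Type*} [CommGroup W] [Finite W] {L : Type*} [Field L] (β : W → W → Lˣ)
    (hl : ∀ a b c, β (a * b) c = β a c * β b c) (hr : ∀ a b c, β a (b * c) = β a b * β a c)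
    (halt : ∀ a, β a a = 1) : ∀ (n : ℕ) (H : Subgroup W), Nat.card H = n → ∀ R : Subgroup W,
      (∀ x, x ∈ R ↔ x ∈ H ∧ ∀ y ∈ H, β x y = 1) → ∃ e : ℕ, Nat.card H = e ^ 2 * Nat.card R := by
  intro n
  induction n using Nat.strong_induction_on with
  | _ n ih => ?_
  intro H hn R hR
  classical
  by_cases hHR : H ≤ R
  · exact ⟨1, by rw [le_antisymm (fun x hx => ((hR x).1 hx).1) hHR]; simp⟩
  obtain ⟨x, hxH, hxR⟩ := SetLike.not_le_iff_exists.1 hHR
  have hswap : ∀ a b, β a b = (β b a)⁻¹ := by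
    intro a b
    have h := halt (a * b)
    rw [hl, hr, hr, halt, halt, one_mul, mul_one] at h
    exact eq_inv_of_mul_eq_one_left h
  let f : H →* Lˣ := MonoidHom.mk' (fun y => β x y) (fun a b => hr x a b)
  haveI : Finite f.range := Finite.of_surjective f.rangeRestrict f.rangeRestrict_surjective
  set m := Nat.card f.range with hm
  have hm0 : 0 < m := Nat.card_pos
  haveI : IsCyclic f.range := inferInstance
  obtain ⟨⟨_, y₀, rfl⟩, hgen⟩ := IsCyclic.exists_generator (α := f.range)
  haveI : NeZero m := ⟨hm0.ne'⟩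
  have hroots : rootsOfUnity m L = f.range := by
    refine (Subgroup.eq_of_le_of_card_ge (fun z hz => ?_) ?_).symm
    · rw [mem_rootsOfUnity, hm]
      exact congrArg Subtype.val (pow_card_eq_one' (x := (⟨z, hz⟩ : f.range)))
    · exact card_rootsOfUnity L m
  set H' : Subgroup W := f.ker.map H.subtype with hH'
  have hH'mem : ∀ w, w ∈ H' ↔ w ∈ H ∧ β x w = 1 := by
    intro w
    constructor
    · rintro ⟨a, ha, rfl⟩
      exact ⟨a.2, ha⟩
    · rintro ⟨hw, h1⟩
      exact ⟨⟨w, hw⟩, h1, rfl⟩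
  have hcard : Nat.card H = m * Nat.card H' := by
    rw [← f.ker.card_mul_index, Subgroup.index_ker, ← hm, mul_comm, hH',
      Nat.card_congr (f.ker.equivMapOfInjective H.subtype H.subtype_injective).toEquiv]
  have hm2 : 2 ≤ m := by
    by_contra h
    refine hxR ((hR x).2 ⟨hxH, fun y hy => ?_⟩)
    have hb : f.range = ⊥ := Subgroup.card_eq_one.1 (by omega)
    exact Subgroup.mem_bot.1 (hb ▸ ⟨⟨y, hy⟩, rfl⟩ : f ⟨y, hy⟩ ∈ (⊥ : Subgroup Lˣ))
  have hlt : Nat.card H' < n := by
    have h0 : 0 < Nat.card H' := Nat.card_pos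
    rw [← hn, hcard]
    nlinarith
  let R' : Subgroup W :=
    { carrier := {w | w ∈ H' ∧ ∀ y ∈ H', β w y = 1}
      one_mem' := ⟨one_mem _, fun y _ => by simpa using hl 1 1 y⟩
      mul_mem' := fun {a b} ha hb => ⟨mul_mem ha.1 hb.1, fun y hy => by
        rw [hl, ha.2 y hy, hb.2 y hy, one_mul]⟩
      inv_mem' := fun {a} ha => ⟨inv_mem ha.1, fun y hy => by
        have h := hl a a⁻¹ y
        rw [mul_inv_cancel, ha.2 y hy, one_mul] at h
        rw [← h]
        simpa using hl 1 1 y⟩ }
  obtain ⟨e', he'⟩ := ih _ hlt H' rfl R' (fun w => Iff.rfl)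
  -- the radical of the hyperplane
  have hx' : x ∈ R' := ⟨(hH'mem x).2 ⟨hxH, halt x⟩, fun y hy => ((hH'mem y).1 hy).2⟩
  let φ : R' →* Lˣ := MonoidHom.mk' (fun w => β w y₀) (fun a b => hl a b y₀)
  have hdecomp : ∀ y : H, ∃ (k : ℤ) (b : W), b ∈ H' ∧ (y : W) = ((y₀ : W) ^ k) * b := by
    intro y
    obtain ⟨k, hk⟩ := Subgroup.mem_zpowers_iff.1 (hgen ⟨f y, y, rfl⟩)
    refine ⟨k, (((y₀ ^ k)⁻¹ * y : H) : W), ⟨(y₀ ^ k)⁻¹ * y, ?_, rfl⟩, ?_⟩
    · have h1 : (f y₀) ^ k = f y := congrArg Subtype.val hk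
      rw [SetLike.mem_coe, MonoidHom.mem_ker, map_mul, map_inv, map_zpow, h1, inv_mul_cancel]
    · simp
  have hzp : ∀ (w : W) (k : ℤ), β w ((y₀ : W) ^ k) = β w y₀ ^ k := fun w k =>
    map_zpow (MonoidHom.mk' (β w) (hr w)) (y₀ : W) k
  have hker : φ.ker.map R'.subtype = R := by
    ext w
    rw [hR]
    constructor
    · rintro ⟨a, ha, rfl⟩
      refine ⟨((hH'mem _).1 a.2.1).1, fun y hy => ?_⟩
      obtain ⟨k, b, hb, hyb⟩ := hdecomp ⟨y, hy⟩
      rw [show y = (y₀ : W) ^ k * b from hyb, hr, hzp, show β (R'.subtype a) y₀ = 1 from ha, one_zpow,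
        one_mul]
      exact a.2.2 b hb
    · rintro ⟨hw, h1⟩
      refine ⟨⟨w, (hH'mem w).2 ⟨hw, by rw [hswap, h1 x hxH, inv_one]⟩, fun y hy => h1 y ((hH'mem y).1 hy).1⟩,
        h1 _ y₀.2, rfl⟩
  have hrange : φ.range = f.range := by
    refine le_antisymm ?_ ?_
    · rintro _ ⟨a, rfl⟩
      rw [← hroots, mem_rootsOfUnity]
      show β a y₀ ^ m = 1
      have h1 := map_pow (MonoidHom.mk' (β (a : W)) (hr (a : W))) (y₀ : W) m
      have hpow : (y₀ : W) ^ m ∈ H' := by
        refine ⟨y₀ ^ m, ?_, rfl⟩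
        rw [SetLike.mem_coe, MonoidHom.mem_ker, map_pow, hm]
        exact congrArg Subtype.val (pow_card_eq_one' (x := (⟨f y₀, y₀, rfl⟩ : f.range)))
      exact h1.symm.trans (a.2.2 _ hpow)
    · rintro _ ⟨y, rfl⟩
      obtain ⟨k, hk⟩ := Subgroup.mem_zpowers_iff.1 (hgen ⟨f y, y, rfl⟩)
      exact ⟨(⟨x, hx'⟩ : R') ^ k, by rw [map_zpow]; exact congrArg Subtype.val hk⟩
  have hR'card : Nat.card R' = m * Nat.card R := by
    rw [← φ.ker.card_mul_index, Subgroup.index_ker, hrange, ← hm, mul_comm, ← hker,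
      Nat.card_congr (φ.ker.equivMapOfInjective R'.subtype R'.subtype_injective).toEquiv]
  exact ⟨m * e', by rw [hcard, he', hR'card]; ring⟩

theorem exists_sq {W : Type*} [CommGroup W] [Finite W] {L : Type*} [Field L] (β : W → W → Lˣ)
    (hl : ∀ a b c, β (a * b) c = β a c * β b c) (hr : ∀ a b c, β a (b * c) = β a b * β a c)
    (halt : ∀ a, β a a = 1) (hnd : ∀ a, (∀ b, β a b = 1) → a = 1) :
    ∃ e : ℕ, Nat.card W = e ^ 2 := by
  obtain ⟨e, he⟩ := square_aux β hl hr halt _ ⊤ rfl ⊥ (fun x => by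
    constructor
    · intro h
      rw [Subgroup.mem_bot] at h
      subst h
      exact ⟨trivial, fun y _ => by simpa using hl 1 1 y⟩
    · exact fun h => Subgroup.mem_bot.2 (hnd x fun b => h.2 b trivial))
  exact ⟨e, by simpa [Subgroup.card_top] using he⟩

theorem eq_bot_of_card_dvd_pow {V : Type*} [AddCommGroup V] [Finite V] {r k : ℕ} [Fact r.Prime]
    (hV : ∀ v : V, r • v = 0) (X : Subgroup (Aut1 V)) (hcr : CR X) (h : Nat.card X ∣ r ^ k) :
    X = ⊥ := by
  obtain ⟨j, -, hj⟩ := (Nat.dvd_prime_pow (Fact.out : r.Prime)).1 h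
  exact normal_pgroup_trivial hV X X le_rfl (fun x hx n hn => mul_mem (mul_mem (inv_mem hx) hn) hx)
    (IsPGroup.of_card hj) hcr

/-- Completely reducible odd groups preserving a form on a group of order 81. -/
theorem card_le_five {V : Type*} [AddCommGroup V] [Finite V] (hV : ∀ v : V, 3 • v = 0)
    (hcard : Nat.card V = 81) (X : Subgroup (Aut1 V)) (hodd : Odd (Nat.card X)) (hcr : CR X)
    {L : Type*} [CommGroup L] (b : V → V → L) (hr : ∀ u v w, b u (v + w) = b u v * b u w)
    (halt : ∀ v, b v v = 1) (hnd : ∀ u, (∀ v, b u v = 1) → u = 0)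
    (hinv : ∀ x ∈ X, ∀ u v, b ((x : AddMonoid.End V) u) ((x : AddMonoid.End V) v) = b u v) :
    Nat.card X ≤ 5 := by
  haveI : Fact (Nat.Prime 3) := ⟨Nat.prime_three⟩
  haveI : Fact (Nat.Prime 13) := ⟨by norm_num⟩
  have hdvd : Nat.card X ∣ 512 * 47385 := by
    have h := card_dvd_gl (r := 3) (k := 4) hV (by rw [hcard]; norm_num) X
    simpa [Fin.prod_univ_four] using h
  have hd2 : Nat.card X ∣ 47385 :=
    (Nat.Coprime.pow_right 9 hodd.coprime_two_right : Nat.Coprime (Nat.card X) (2 ^ 9)).dvd_of_dvd_mul_left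
      (by norm_num; exact hdvd)
  have h13 : ¬ 13 ∣ Nat.card X := by
    intro h
    obtain ⟨g, hg⟩ := exists_prime_orderOf_dvd_card' 13 h
    set gg : Aut1 V := (g : Aut1 V) with hgg
    have hgo : orderOf gg = 13 := by rw [hgg, Subgroup.orderOf_coe, hg]
    set C := fixedAdd ({gg} : Set (Aut1 V)) with hC
    have hmod := card_modEq_fixed (s := 13) gg hgo
    rw [hcard, ← hC] at hmod
    have hCne : C ≠ ⊤ := by
      intro htop
      have : gg = 1 := Units.ext (DFunLike.ext _ _ fun v => (htop ▸ trivial : v ∈ C) gg rfl)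
      rw [this, orderOf_one] at hgo
      norm_num at hgo
    have hC3 : Nat.card C = 3 := by
      have hd : Nat.card C ∣ 3 ^ 4 := by
        rw [show (3 : ℕ) ^ 4 = Nat.card V by rw [hcard]; norm_num]
        exact C.card_addSubgroup_dvd_card
      obtain ⟨j, hj, hjC⟩ := (Nat.dvd_prime_pow Nat.prime_three).1 hd
      have hne : j ≠ 4 := fun hj4 => hCne (AddSubgroup.eq_top_of_card_eq _ (by rw [hjC, hj4, hcard]; norm_num))
      rw [hjC] at hmod ⊢
      interval_cases j <;> first | rfl | (exfalso; exact hne rfl) | (exfalso; norm_num [Nat.ModEq] at hmod)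
    obtain ⟨a, haC, ha0⟩ := (AddSubgroup.bot_or_exists_ne_zero C).resolve_left (fun hb => by
      rw [hb, AddSubgroup.card_bot] at hC3; omega)
    have hga : (gg : AddMonoid.End V) a = a := haC gg rfl
    let D : V →+ V := AddMonoidHom.mk' (fun v => (gg : AddMonoid.End V) v - v)
      (fun u v => by rw [map_add]; abel)
    have hD : ∀ v, D v = (gg : AddMonoid.End V) v - v := fun v => rfl
    have hker : D.ker = C := by
      ext v
      rw [AddMonoidHom.mem_ker, hD, sub_eq_zero]
      exact ⟨fun h s hs => by rw [Set.mem_singleton_iff] at hs; subst hs; exact h, fun h => h gg rfl⟩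
    have hrangecard : Nat.card D.range = 27 := by
      have h1 := D.ker.card_mul_index
      rw [AddSubgroup.index_ker, hker, hC3, hcard] at h1
      omega
    have hdisj : ∀ c ∈ C, c ∈ D.range → c = 0 := by
      rintro c hc ⟨y, rfl⟩
      have hc' : (gg : AddMonoid.End V) (D y) = D y := hc gg rfl
      have hpow : ∀ n : ℕ, ((gg ^ n : Aut1 V) : AddMonoid.End V) y = y + n • D y := by
        intro n
        induction n with
        | zero => rw [pow_zero, zero_smul, add_zero, one_apply']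
        | succ n ih =>
          rw [pow_succ', mul_apply', ih, map_add, map_nsmul, hc', succ_nsmul',
            show (gg : AddMonoid.End V) y = y + D y by rw [hD]; abel]
          abel
      have h1 := hpow 13
      rw [show gg ^ 13 = 1 from hgo ▸ pow_orderOf_eq_one gg, one_apply', left_eq_add] at h1
      have h3 := hV (D y)
      have h4 : 13 • D y = D y + 4 • (3 • D y) := by abel
      rw [h1, h3, smul_zero, add_zero] at h4
      exact h4.symm
    refine ha0 (hnd a fun v => ?_)
    have hsurj : Function.Surjective (fun p : C × D.range => (p.1 : V) + p.2) := by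
      refine ((Nat.bijective_iff_injective_and_card _).2 ⟨?_, ?_⟩).2
      · rintro ⟨c, d⟩ ⟨c', d'⟩ h
        have h' : (c : V) - c' = d' - d := by
          have h'' : (c : V) + d = c' + d' := h
          rw [sub_eq_sub_iff_add_eq_add, h'', add_comm]
        have h0 := hdisj _ (sub_mem c.2 c'.2) (h'.symm ▸ sub_mem d'.2 d.2)
        have hcc : c = c' := Subtype.ext (sub_eq_zero.1 h0)
        subst hcc
        exact Prod.ext rfl (Subtype.ext (add_left_cancel h))
      · rw [Nat.card_prod, hC3, hrangecard, hcard]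
    obtain ⟨⟨c, ⟨_, y, rfl⟩⟩, rfl⟩ := hsurj v
    show b a (c + D y) = 1
    have hbD : b a (D y) = 1 := by
      have h1 := hinv gg g.2 a y
      rw [hga, show (gg : AddMonoid.End V) y = D y + y by rw [hD]; abel, hr] at h1
      simpa using h1
    have hbc : b a (c : V) = 1 := by
      have hz : AddSubgroup.zmultiples a = C := by
        refine AddSubgroup.eq_of_le_of_card_ge (AddSubgroup.zmultiples_le.2 haC) ?_
        rw [Nat.card_zmultiples, hC3, addOrderOf_eq_prime (hV a) ha0]
      obtain ⟨k, hk⟩ := AddSubgroup.mem_zmultiples_iff.1 (hz.symm ▸ c.2 : (c : V) ∈ AddSubgroup.zmultiples a)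
      have hmap : ∀ k : ℤ, b a (k • a) = b a a ^ k := fun k =>
        map_zpow (MonoidHom.mk' (fun v : Multiplicative V => b a v.toAdd) (fun u v => hr a _ _))
          (Multiplicative.ofAdd a) k
      rw [← hk, hmap, halt, one_zpow]
    rw [hr, hbc, hbD, one_mul]
  have hd3 : Nat.card X ∣ 3 ^ 6 * 5 := by
    have hc : Nat.Coprime (Nat.card X) 13 :=
      ((Nat.Prime.coprime_iff_not_dvd (by norm_num : Nat.Prime 13)).2 h13).symm
    exact hc.dvd_of_dvd_mul_left (show Nat.card X ∣ 13 * (3 ^ 6 * 5) by norm_num; exact hd2)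
  -- the Sylow 3-subgroup is normal
  obtain ⟨P⟩ := (inferInstance : Nonempty (Sylow 3 X))
  have hidx : (P : Subgroup X).index ∣ 5 := by
    have hnd3 := P.not_dvd_index
    have h1 : (P : Subgroup X).index ∣ 3 ^ 6 * 5 := (Subgroup.index_dvd_card _).trans hd3
    exact ((Nat.Prime.coprime_iff_not_dvd Nat.prime_three).2 hnd3).symm.pow_right 6 |>.dvd_of_dvd_mul_left h1
  have hns : Nat.card (Sylow 3 X) = 1 := by
    have h1 := P.card_dvd_index.trans hidx
    have h2 := card_sylow_modEq_one 3 X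
    have h3 := Nat.le_of_dvd (by norm_num) h1
    generalize Nat.card (Sylow 3 X) = s at h1 h2 h3
    interval_cases s <;> first | rfl | (exfalso; norm_num at h1; done) | (exfalso; norm_num [Nat.ModEq] at h2; done)
  haveI : Subsingleton (Sylow 3 X) := (Nat.card_eq_one_iff_unique.1 hns).1
  haveI : (P : Subgroup X).Normal := Sylow.normal_of_subsingleton P
  have hPbot : (P : Subgroup X) = ⊥ := by
    have h := normal_pgroup_trivial hV X ((P : Subgroup X).map X.subtype) (Subgroup.map_subtype_le _)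
      (fun x hx n hn => by
        obtain ⟨m, hm, rfl⟩ := hn
        exact ⟨_, (inferInstance : (P : Subgroup X).Normal).conj_mem m hm ⟨x, hx⟩⁻¹, by simp⟩)
      (P.isPGroup'.map X.subtype) hcr
    exact (Subgroup.map_eq_bot_iff_of_injective _ X.subtype_injective).1 h
  rw [hPbot, Subgroup.index_bot] at hidx
  exact Nat.le_of_dvd (by norm_num) hidx

end Cfsg.Agent.PairBase
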