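import Cfsg.Agent.PairBase.Basic
import Cfsg.Agent.Lib.MinimalNormal

/-!
A solvable permutation group of odd order has a subset with trivial setwise stabiliser.
-/

set_option autoImplicit false
set_option linter.unusedSectionVars false

namespace Cfsg.Agent.PairBase

open MulAction

/-- An element of odd order has at most `(n + 2 f) / 3` cycles. -/
theorem card_preserved_le {Ω : Type*} [Finite Ω] (g : Equiv.Perm Ω) (hg : Odd (orderOf g))
    (k : ℕ) (hk : Nat.card Ω + 2 * Nat.card {x : Ω // g x = x} < 3 * (k + 1)) :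
    Nat.card {B : Set Ω // ∀ x, g x ∈ B ↔ x ∈ B} ≤ 2 ^ k := by
  classical
  set Q := orbitRel.Quotient (Subgroup.zpowers g) Ω with hQ
  haveI : Finite Q := Quotient.finite _
  haveI := Fintype.ofFinite Ω
  haveI := Fintype.ofFinite Q
  haveI : ∀ ω : Q, Fintype ω.orbit := fun _ => Fintype.ofFinite _
  -- preserved sets are unions of cycles
  have hinj : Nat.card {B : Set Ω // ∀ x, g x ∈ B ↔ x ∈ B} ≤ Nat.card (Q → Prop) := by
    refine Nat.card_le_card_of_injective (fun B q => q.out ∈ B.1) fun A B h => ?_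
    refine Subtype.ext (Set.ext fun x => ?_)
    have key : ∀ C : {B : Set Ω // ∀ x, g x ∈ B ↔ x ∈ B},
        (x ∈ C.1 ↔ (Quotient.mk'' x : Q).out ∈ C.1) := by
      intro C
      let S : Subgroup (Equiv.Perm Ω) :=
        { carrier := {a | ∀ y, a y ∈ C.1 ↔ y ∈ C.1}
          one_mem' := fun y => Iff.rfl
          mul_mem' := fun {a b} ha hb y => (ha (b y)).trans (hb y)
          inv_mem' := fun {a} ha y => by
            show a.symm y ∈ C.1 ↔ y ∈ C.1
            conv_rhs => rw [← Equiv.apply_symm_apply a y]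
            exact (ha _).symm }
      obtain ⟨⟨a, ha⟩, hax⟩ : (Quotient.mk'' x : Q).out ∈ orbit (Subgroup.zpowers g) x :=
        orbitRel_apply.1 (Quotient.mk_out (s := orbitRel (Subgroup.zpowers g) Ω) x)
      rw [← hax]
      exact ((Subgroup.zpowers_le.2 (show g ∈ S from C.2) ha : a ∈ S) x).symm
    rw [key A, key B]
    exact iff_of_eq (congrFun h _)
  refine hinj.trans ?_
  rw [Nat.card_fun, Nat.card_eq_fintype_card (α := Prop), Fintype.card_prop]
  refine Nat.pow_le_pow_right (by norm_num) ?_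
  -- count the cycles
  have hpart : Fintype.card Ω = ∑ ω : Q, Fintype.card ω.orbit := by
    rw [← Fintype.card_sigma]
    exact Fintype.card_congr (selfEquivSigmaOrbits' (Subgroup.zpowers g) Ω)
  have hone : ∀ ω : Q, 3 ≤ Fintype.card ω.orbit + 2 * (if Fintype.card ω.orbit = 1 then 1 else 0) := by
    intro ω
    have hdvd : Fintype.card ω.orbit ∣ orderOf g := by
      rw [← Nat.card_zpowers, ← Nat.card_eq_fintype_card,
        orbitRel.Quotient.orbit_eq_orbit_out ω Quotient.out_eq']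
      rw [← Nat.card_congr (orbitEquivQuotientStabilizer _ _).symm]
      exact Subgroup.card_quotient_dvd_card _
    obtain ⟨t, ht⟩ := hg.of_dvd_nat hdvd
    split_ifs with h <;> omega
  have hfix : (∑ ω : Q, (if Fintype.card ω.orbit = 1 then 1 else 0)) ≤ Nat.card {x : Ω // g x = x} := by
    rw [← Finset.card_filter, Nat.card_eq_fintype_card, Fintype.card_subtype]
    refine Finset.card_le_card_of_injOn (fun ω => ω.out) (fun ω hω => ?_)
      (fun a _ b _ h => by
        simpa using congrArg (Quotient.mk'' : Ω → Q) h)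
    simp only [Finset.coe_filter, Finset.mem_univ, true_and, Set.mem_setOf_eq] at hω ⊢
    obtain ⟨y, hy⟩ := Fintype.card_eq_one_iff.1 hω
    have h1 : ω.out ∈ ω.orbit := by
      rw [orbitRel.Quotient.orbit_eq_orbit_out ω Quotient.out_eq']; exact mem_orbit_self _
    have h2 : g ω.out ∈ ω.orbit := by
      rw [orbitRel.Quotient.orbit_eq_orbit_out ω Quotient.out_eq']
      exact ⟨⟨g, Subgroup.mem_zpowers g⟩, rfl⟩
    exact (congrArg Subtype.val (hy ⟨_, h2⟩)).trans (congrArg Subtype.val (hy ⟨_, h1⟩)).symm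
  have hsum := Finset.sum_le_sum (s := (Finset.univ : Finset Q)) fun ω _ => hone ω
  rw [Finset.sum_const, Finset.card_univ, smul_eq_mul, Finset.sum_add_distrib, ← hpart,
    ← Finset.mul_sum] at hsum
  rw [Nat.card_eq_fintype_card (α := Q)]
  rw [Nat.card_eq_fintype_card (α := Ω)] at hk
  omega

theorem arith_prime {p d : ℕ} (hp : 3 ≤ p) (hd : 2 * d ≤ p - 1) :
    (p * d) ^ 3 ≤ 2 ^ (2 * (p - 1) + 3) := by
  have h : ∀ j, (j + 3) ^ 3 ≤ 2 ^ (j + 5) := by
    intro j
    induction j with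
    | zero => norm_num
    | succ j ih =>
      rcases Nat.eq_zero_or_pos j with rfl | hj
      · norm_num
      calc (j + 1 + 3) ^ 3 ≤ 2 * (j + 3) ^ 3 := by
            nlinarith [Nat.one_le_pow 3 j hj, Nat.one_le_pow 2 j hj]
        _ ≤ 2 * 2 ^ (j + 5) := Nat.mul_le_mul_left 2 ih
        _ = 2 ^ (j + 1 + 5) := by ring
  obtain ⟨j, rfl⟩ : ∃ j, p = j + 3 := ⟨p - 3, by omega⟩
  have h1 : 2 * ((j + 3) * d) ≤ (j + 3) ^ 2 := by
    calc 2 * ((j + 3) * d) = (j + 3) * (2 * d) := by ring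
      _ ≤ (j + 3) * (j + 3) := Nat.mul_le_mul_left _ (by omega)
      _ = (j + 3) ^ 2 := by ring
  have h2 : 8 * ((j + 3) * d) ^ 3 ≤ 8 * 2 ^ (2 * (j + 3 - 1) + 3) := by
    calc 8 * ((j + 3) * d) ^ 3 = (2 * ((j + 3) * d)) ^ 3 := by ring
      _ ≤ ((j + 3) ^ 2) ^ 3 := Nat.pow_le_pow_left h1 3
      _ = ((j + 3) ^ 3) ^ 2 := by ring
      _ ≤ (2 ^ (j + 5)) ^ 2 := Nat.pow_le_pow_left (h j) 2
      _ = 8 * 2 ^ (2 * (j + 3 - 1) + 3) := by
          rw [show 2 * (j + 3 - 1) + 3 = 2 * j + 7 by omega]; ring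
  omega

theorem arith_prim {p a d : ℕ} (hp : p.Prime) (hpodd : p ≠ 2) (ha : 2 ≤ a) (hd : d ≤ (p ^ a) ^ a)
    (h9 : p ^ a = 9 → d ≤ 3) (h27 : p ^ a = 27 → d ≤ 117) :
    (p ^ a * d) ^ 3 ≤ 2 ^ (2 * (p ^ a - p ^ (a - 1)) + 3) := by
  have hp3 : 3 ≤ p := by have := hp.two_le; omega
  set n := p ^ a with hn
  have hm : p ^ (a - 1) * p = n := by rw [← pow_succ, hn]; congr 1; omega
  have h3a : 3 ^ a ≤ n := Nat.pow_le_pow_left hp3 a
  by_cases hbig : 128 < n
  · obtain ⟨k, hk1, hk2⟩ : ∃ k, 2 ^ k < n ∧ n ≤ 2 ^ (k + 1) := by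
      refine ⟨Nat.clog 2 n - 1, Nat.pow_pred_clog_lt_self (by norm_num) (by omega), ?_⟩
      have : 0 < Nat.clog 2 n := Nat.clog_pos (by norm_num) (by omega)
      rw [Nat.sub_add_cancel this]
      exact Nat.le_pow_clog (by norm_num) n
    have hk7 : 7 ≤ k := by
      by_contra h
      have : 2 ^ (k + 1) ≤ 2 ^ 7 := Nat.pow_le_pow_right (by norm_num) (by omega)
      omega
    have ha3 : 3 * a ≤ 2 * (k + 1) := by
      have : 2 ^ (3 * a) ≤ 2 ^ (2 * (k + 1)) := by
        calc 2 ^ (3 * a) = 8 ^ a := by rw [pow_mul]; norm_num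
          _ ≤ 9 ^ a := Nat.pow_le_pow_left (by norm_num) a
          _ = (3 ^ a) ^ 2 := by rw [← pow_mul, mul_comm, pow_mul]; norm_num
          _ ≤ (2 ^ (k + 1)) ^ 2 := Nat.pow_le_pow_left (h3a.trans hk2) 2
          _ = 2 ^ (2 * (k + 1)) := by rw [← pow_mul, mul_comm]
      exact (Nat.pow_le_pow_iff_right (by norm_num)).1 this
    have hgrow : ∀ j, 3 * (j + 8) * (2 * (j + 8) + 3) ≤ 4 * 2 ^ (j + 7) := by
      intro j
      induction j with
      | zero => norm_num
      | succ j ih =>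
        have h2 : 2 ^ (j + 1 + 7) = 2 * 2 ^ (j + 7) := by ring
        rw [h2]; nlinarith
    obtain ⟨j, rfl⟩ : ∃ j, k = j + 7 := ⟨k - 7, by omega⟩
    have hkey : 3 * (j + 8) * (a + 1) ≤ 2 * (n - p ^ (a - 1)) + 3 := by
      have h1 : 9 * (j + 8) * (a + 1) ≤ 4 * n := by
        calc 9 * (j + 8) * (a + 1) = 3 * (j + 8) * (3 * (a + 1)) := by ring
          _ ≤ 3 * (j + 8) * (2 * (j + 8) + 3) := Nat.mul_le_mul_left _ (by omega)
          _ ≤ 4 * 2 ^ (j + 7) := hgrow j
          _ ≤ 4 * n := by omega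
      have h2 : 3 * p ^ (a - 1) ≤ n := by rw [← hm, mul_comm]; exact Nat.mul_le_mul_left _ hp3
      have h3 : 3 * (3 * (j + 8) * (a + 1)) = 9 * (j + 8) * (a + 1) := by ring
      omega
    calc (n * d) ^ 3 ≤ (n * n ^ a) ^ 3 := Nat.pow_le_pow_left (Nat.mul_le_mul_left _ hd) 3
      _ = n ^ (3 * (a + 1)) := by rw [← pow_succ', ← pow_mul, mul_comm (a + 1)]
      _ ≤ (2 ^ (j + 8)) ^ (3 * (a + 1)) := Nat.pow_le_pow_left hk2 _
      _ ≤ 2 ^ (2 * (n - p ^ (a - 1)) + 3) := by
          rw [← pow_mul]; exact Nat.pow_le_pow_right (by norm_num) (by nlinarith [hkey])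
  · -- the few small cases
    have ha4 : a ≤ 4 := by
      by_contra h
      have : 3 ^ 5 ≤ 3 ^ a := Nat.pow_le_pow_right (by norm_num) (by omega)
      omega
    have hp11 : p ≤ 11 := by
      have : p ^ 2 ≤ n := Nat.pow_le_pow_right hp.pos ha
      nlinarith
    have hle : (n * d) ^ 3 ≤ (n * n ^ a) ^ 3 := Nat.pow_le_pow_left (Nat.mul_le_mul_left _ hd) 3
    have hcases : (p = 3 ∧ a = 2) ∨ (p = 3 ∧ a = 3) ∨ (p = 3 ∧ a = 4) ∨ (p = 5 ∧ a = 2) ∨
        (p = 5 ∧ a = 3) ∨ (p = 7 ∧ a = 2) ∨ (p = 11 ∧ a = 2) := by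
      interval_cases p <;> first
        | (exfalso; exact hpodd rfl)
        | (exfalso; norm_num at hp; done)
        | (interval_cases a <;> first | (norm_num [hn] at hbig; done) | simp)
    rcases hcases with ⟨rfl, rfl⟩ | ⟨rfl, rfl⟩ | ⟨rfl, rfl⟩ | ⟨rfl, rfl⟩ | ⟨rfl, rfl⟩ | ⟨rfl, rfl⟩ |
      ⟨rfl, rfl⟩ <;> simp only [hn] at hle h9 h27 ⊢
    · refine le_trans (Nat.pow_le_pow_left (Nat.mul_le_mul_left _ (h9 (by norm_num))) 3) ?_
      norm_num
    · refine le_trans (Nat.pow_le_pow_left (Nat.mul_le_mul_left _ (h27 (by norm_num))) 3) ?_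
      norm_num
    all_goals exact le_trans hle (by norm_num)

theorem card_gl_le {p a : ℕ} (hp : 1 ≤ p) : ∏ i : Fin a, (p ^ a - p ^ (i : ℕ)) ≤ (p ^ a) ^ a := by
  calc ∏ i : Fin a, (p ^ a - p ^ (i : ℕ)) ≤ ∏ _i : Fin a, p ^ a :=
        Finset.prod_le_prod' fun i _ => Nat.sub_le _ _
    _ = (p ^ a) ^ a := by rw [Finset.prod_const, Finset.card_univ, Fintype.card_fin]

theorem card_gl_pos {p a : ℕ} (hp : 2 ≤ p) : 0 < ∏ i : Fin a, (p ^ a - p ^ (i : ℕ)) :=
  Finset.prod_pos fun i _ => Nat.sub_pos_of_lt (Nat.pow_lt_pow_right hp i.2)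

/-- No irreducible group of order 351 on a group of order 27. -/
theorem card_ne_351 {V : Type*} [AddCommGroup V] [Finite V] (hV : ∀ v : V, 3 • v = 0)
    (hcard : Nat.card V = 27) (X : Subgroup (Aut1 V)) [Group.IsSolvable X] (hirr : Irred X) :
    Nat.card X ≠ 351 := by
  intro h351
  haveI : Fact (Nat.Prime 3) := ⟨Nat.prime_three⟩
  haveI : Fact (Nat.Prime 13) := ⟨by norm_num⟩
  haveI : Nontrivial X := Finite.one_lt_card_iff_nontrivial.1 (by rw [h351]; norm_num)
  obtain ⟨M, hMn, hM1, -, hMc, r, hr, hMr, hMp⟩ := MinNormal.exists_elementary_abelian (G := X)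
  haveI := Fact.mk hr
  obtain ⟨i, hi⟩ := hMp.exists_card_eq
  have hdvd : r ^ i ∣ 351 := by rw [← hi, ← h351]; exact M.card_subgroup_dvd_card
  have hi0 : i ≠ 0 := fun h => hM1 (Subgroup.card_eq_one.1 (by rw [hi, h, pow_zero]))
  have hr3 : r ≠ 3 := by
    rintro rfl
    refine hM1 ?_
    have h := normal_pgroup_trivial hV X (M.map X.subtype) (Subgroup.map_subtype_le M)
      (fun x hx n hn => by
        obtain ⟨m, hm, rfl⟩ := hn
        exact ⟨_, hMn.conj_mem m hm ⟨x, hx⟩⁻¹, by simp⟩)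
      (hMp.map X.subtype) hirr.cr
    exact (Subgroup.map_eq_bot_iff_of_injective M X.subtype_injective).1 h
  have hr13 : r = 13 := by
    have h1 : r ∣ 27 * 13 := (dvd_pow_self r hi0).trans hdvd
    rcases hr.dvd_mul.1 h1 with h2 | h2
    · exact absurd ((Nat.prime_dvd_prime_iff_eq hr Nat.prime_three).1
        (hr.dvd_of_dvd_pow (show r ∣ 3 ^ 3 by norm_num; exact h2))) hr3
    · exact (Nat.prime_dvd_prime_iff_eq hr (by norm_num)).1 h2
  subst hr13
  have hM13 : Nat.card M = 13 := by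
    rcases Nat.lt_or_ge i 2 with h | h
    · rw [hi, show i = 1 by omega, pow_one]
    · exact absurd ((pow_dvd_pow 13 h).trans hdvd) (by norm_num)
  have hMcyc : IsCyclic M := isCyclic_of_prime_card hM13
  -- an element of order three centralising `M`
  let f : X →* MulAut M := MulAut.conjNormal
  have hker : 3 ∣ Nat.card f.ker := by
    have h1 := f.ker.card_mul_index
    rw [Subgroup.index_ker, h351] at h1
    have h2 : Nat.card f.range ∣ 12 := by
      have := f.range.card_subgroup_dvd_card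
      rwa [IsCyclic.card_mulAut, hM13, Nat.totient_prime (by norm_num)] at this
    have h3 : Nat.card f.range ≤ 12 := Nat.le_of_dvd (by norm_num) h2
    generalize Nat.card f.range = b at h1 h2 h3
    generalize Nat.card f.ker = c at h1 ⊢
    interval_cases b <;> first | omega | norm_num at h2
  obtain ⟨k, hk⟩ := exists_prime_orderOf_dvd_card' 3 hker
  obtain ⟨m, hm⟩ := exists_prime_orderOf_dvd_card' 13 (show 13 ∣ Nat.card M by rw [hM13])
  set kk : Aut1 V := ((k : X) : Aut1 V) with hkk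
  set mm : Aut1 V := ((m : X) : Aut1 V) with hmm
  have hkord : orderOf kk = 3 := by rw [hkk, Subgroup.orderOf_coe, Subgroup.orderOf_coe, hk]
  have hmord : orderOf mm = 13 := by rw [hmm, Subgroup.orderOf_coe, Subgroup.orderOf_coe, hm]
  have hcomm : mm * kk = kk * mm := by
    have h : f (k : X) m = m := by rw [MonoidHom.mem_ker.1 k.2]; rfl
    have h' := congrArg (fun y : M => ((y : X) : Aut1 V)) h
    simp only [f, MulAut.conjNormal_apply, Subgroup.coe_mul, Subgroup.coe_inv] at h'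
    exact (mul_inv_eq_iff_eq_mul.1 h').symm
  -- `M` has no fixed point
  have hMfix : fixedAdd ((M.map X.subtype : Subgroup (Aut1 V)) : Set (Aut1 V)) = ⊥ := by
    refine (hirr _ (fixedAdd_invariant X _ fun x hx n hn => ?_)).resolve_right fun htop => ?_
    · obtain ⟨a, ha, rfl⟩ := hn
      exact ⟨_, hMn.conj_mem a ha ⟨x, hx⟩⁻¹, by simp⟩
    · have : mm = 1 := Units.ext (DFunLike.ext _ _ fun v =>
        (show v ∈ fixedAdd ((M.map X.subtype : Subgroup (Aut1 V)) : Set (Aut1 V)) by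
          rw [htop]; trivial) mm ⟨(m : X), m.2, rfl⟩)
      rw [this, orderOf_one] at hmord
      norm_num at hmord
  have hmfix : ∀ v : V, (mm : AddMonoid.End V) v = v → v = 0 := by
    intro v hv
    rw [← AddSubgroup.mem_bot, ← hMfix]
    intro n hn
    obtain ⟨a, ha, rfl⟩ := hn
    have hst : mm ∈ stabilizer (Aut1 V) v := hv
    obtain ⟨z, hz⟩ := Subgroup.mem_zpowers_iff.1 (mem_zpowers_of_prime_card (p := 13) hM13
      (fun h => by rw [h, orderOf_one] at hm; norm_num at hm) (g := m) (g' := ⟨a, ha⟩))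
    have hz' : mm ^ z = (a : Aut1 V) := by
      rw [hmm, ← SubgroupClass.coe_zpow, ← SubgroupClass.coe_zpow, hz]
    show (a : Aut1 V) ∈ stabilizer (Aut1 V) v
    rw [← hz']
    exact zpow_mem hst z
  set C := fixedAdd ({kk} : Set (Aut1 V)) with hC
  letI : MulAction (Subgroup.zpowers mm) C :=
    { smul := fun n v => ⟨((n : Aut1 V) : AddMonoid.End V) v, fun s hs => by
        rw [Set.mem_singleton_iff] at hs
        subst hs
        have hcc : Commute (n : Aut1 V) kk := by
          obtain ⟨z, hz⟩ := Subgroup.mem_zpowers_iff.1 n.2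
          rw [← hz]
          exact Commute.zpow_left hcomm z
        rw [← mul_apply', ← hcc.eq, mul_apply', v.2 kk rfl]⟩
      one_smul := fun v => rfl
      mul_smul := fun a b v => rfl }
  have hP : IsPGroup 13 (Subgroup.zpowers mm) :=
    IsPGroup.of_card (n := 1) (by rw [Nat.card_zpowers, hmord, pow_one])
  have h1 := hP.card_modEq_card_fixedPoints C
  have hf1 : Nat.card (fixedPoints (Subgroup.zpowers mm) C) = 1 := by
    refine Nat.card_eq_one_iff_exists.2 ⟨⟨0, fun n => Subtype.ext (map_zero _)⟩, fun ⟨v, hv⟩ => ?_⟩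
    refine Subtype.ext (Subtype.ext (hmfix v ?_))
    exact congrArg Subtype.val (hv ⟨mm, Subgroup.mem_zpowers _⟩)
  rw [hf1] at h1
  have hCne : C ≠ ⊥ := by
    intro hbot
    have h2 := card_modEq_fixed (s := 3) kk hkord
    rw [← hC, hbot, hcard] at h2
    rw [AddSubgroup.card_bot] at h2
    norm_num [Nat.ModEq] at h2
  have hC27 : Nat.card C = 27 := by
    have hd : Nat.card C ∣ 27 := hcard ▸ C.card_addSubgroup_dvd_card
    have hne1 : Nat.card C ≠ 1 := fun h => hCne (AddSubgroup.card_eq_one.1 h)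
    have hle : Nat.card C ≤ 27 := Nat.le_of_dvd (by norm_num) hd
    generalize Nat.card C = c at h1 hd hne1 hle
    interval_cases c <;> first | rfl | (exact absurd rfl hne1) | (norm_num [Nat.ModEq] at h1; done) | (norm_num at hd; done)
  have htop : C = ⊤ := AddSubgroup.eq_top_of_card_eq _ (by rw [hC27, hcard])
  have : kk = 1 := Units.ext (DFunLike.ext _ _ fun v => (htop ▸ trivial : v ∈ C) kk rfl)
  rw [this, orderOf_one] at hkord
  norm_num at hkord

/-- The primitive case. -/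
theorem gluck_primitive {Ω : Type*} [Finite Ω] [Nonempty Ω] (G : Subgroup (Equiv.Perm Ω))
    (hodd : Odd (Nat.card G)) [Group.IsSolvable G] [IsPretransitive G Ω] (x₀ : Ω)
    (hco : IsCoatom (stabilizer G x₀)) :
    ∃ B : Set Ω, ∀ g ∈ G, (∀ x, g x ∈ B ↔ x ∈ B) → g = 1 := by
  classical
  rcases subsingleton_or_nontrivial G with hs | hs
  · exact ⟨∅, fun g hg _ => congrArg Subtype.val (Subsingleton.elim (⟨g, hg⟩ : G) 1)⟩
  obtain ⟨N, hNn, hN1, hmin, hNc, p, hp, hNp', hNp⟩ := MinNormal.exists_elementary_abelian (G := G)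
  haveI := hNn
  haveI := Fact.mk hp
  set M := stabilizer G x₀ with hMdef
  have hNM : ¬ N ≤ M := by
    intro hle
    refine hN1 (eq_bot_iff.2 fun n hn => Subgroup.mem_bot.2 (Subtype.ext (Equiv.ext fun x => ?_)))
    obtain ⟨g, rfl⟩ := exists_smul_eq G x₀ x
    have h := hle (hNn.conj_mem n hn g⁻¹)
    rw [hMdef, mem_stabilizer_iff, inv_inv, mul_smul, mul_smul, inv_smul_eq_iff] at h
    exact h
  have hMN : M ⊔ N = ⊤ := hco.2 _ (lt_of_le_of_ne le_sup_left fun h => hNM (h ▸ le_sup_right))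
  have htrans : ∀ x : Ω, ∃ n ∈ N, n • x₀ = x := by
    intro x
    obtain ⟨g, rfl⟩ := exists_smul_eq G x₀ x
    have hg : g ∈ ((N ⊔ M : Subgroup G) : Set G) := by rw [sup_comm, hMN]; exact Subgroup.mem_top g
    rw [Subgroup.normal_mul] at hg
    obtain ⟨n, hn, m, hm, rfl⟩ := Set.mem_mul.1 hg
    exact ⟨n, hn, by rw [mul_smul, show m • x₀ = x₀ from hm]⟩
  have hreg : ∀ n ∈ N, n • x₀ = x₀ → n = 1 := by
    intro n hn h
    refine Subtype.ext (Equiv.ext fun x => ?_)
    obtain ⟨m, hm, rfl⟩ := htrans x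
    show n • m • x₀ = m • x₀
    have hc : n * m = m * n := congrArg Subtype.val (hNc.is_comm.comm (⟨n, hn⟩ : N) ⟨m, hm⟩)
    rw [← mul_smul, hc, mul_smul, h]
  let e : N → Ω := fun n => (n : G) • x₀
  have he : Function.Bijective e := by
    refine ⟨fun a b h => ?_, fun x => ?_⟩
    · have h' : (a : G) • x₀ = (b : G) • x₀ := h
      refine Subtype.ext (inv_mul_eq_one.1 (hreg _ (mul_mem (inv_mem b.2) a.2) ?_)).symm
      rw [mul_smul, h', inv_smul_smul]
    · obtain ⟨n, hn, h⟩ := htrans x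
      exact ⟨⟨n, hn⟩, h⟩
  have hNΩ : Nat.card N = Nat.card Ω := Nat.card_eq_of_bijective e he
  obtain ⟨a, ha⟩ := hNp.exists_card_eq
  have ha0 : a ≠ 0 := fun h => hN1 (Subgroup.card_eq_one.1 (by rw [ha, h, pow_zero]))
  have hpodd : p ≠ 2 := by
    rintro rfl
    have : 2 ∣ Nat.card G := ((dvd_pow_self 2 ha0).trans (dvd_of_eq ha.symm)).trans N.card_subgroup_dvd_card
    obtain ⟨t, ht⟩ := hodd
    omega
  -- the action of the point stabiliser
  letI : CommGroup N := { (inferInstance : Group N) with mul_comm := fun x y => hNc.is_comm.comm x y }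
  let toEnd : MulAut N →* Aut1 (Additive N) := MonoidHom.toHomUnits
    { toFun := fun φ => (MonoidHom.toAdditive φ.toMonoidHom : Additive N →+ Additive N)
      map_one' := rfl
      map_mul' := fun _ _ => rfl }
  let ρ : M →* Aut1 (Additive N) := toEnd.comp (MulAut.conjNormal.comp M.subtype)
  have hρ : ∀ (h : M) (n : N), ((ρ h : Aut1 (Additive N)) : AddMonoid.End (Additive N)) (Additive.ofMul n) =
      Additive.ofMul (MulAut.conjNormal (h : G) n) := fun _ _ => rfl
  have hconj : ∀ (h : M) (n : N), ((h : G) • e n) = e (MulAut.conjNormal (h : G) n) := by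
    intro h n
    show (h : G) • (n : G) • x₀ = ((MulAut.conjNormal (h : G) n : N) : G) • x₀
    rw [MulAut.conjNormal_apply, mul_smul, mul_smul]
    congr 2
    exact (inv_smul_eq_iff.2 (show x₀ = (h : G) • x₀ from h.2.symm)).symm
  have hρinj : Function.Injective ρ := by
    rw [injective_iff_map_eq_one]
    intro h h1
    refine Subtype.ext (Subtype.ext (Equiv.ext fun x => ?_))
    obtain ⟨n, rfl⟩ := he.2 x
    show (h : G) • e n = e n
    rw [hconj]
    have h2 := hρ h n
    rw [h1, one_apply'] at h2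
    exact congrArg e (Additive.ofMul.injective h2).symm
  let X := ρ.range
  have hXirr : Irred X := by
    intro U hU
    let L : Subgroup G := (U.toSubgroup' : Subgroup N).map N.subtype
    have hLn : L.Normal := ⟨fun y hy g => by
      obtain ⟨b, hb, rfl⟩ := hy
      have hg : g ∈ ((N ⊔ M : Subgroup G) : Set G) := by
        rw [sup_comm, hMN]; exact Subgroup.mem_top g
      rw [Subgroup.normal_mul] at hg
      obtain ⟨n, hn, m, hm, rfl⟩ := Set.mem_mul.1 hg
      refine ⟨MulAut.conjNormal m b, ?_, ?_⟩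
      · exact hU (ρ ⟨m, hm⟩) ⟨⟨m, hm⟩, rfl⟩ _ hb
      · set c : N := MulAut.conjNormal m b with hc
        have hcn : n * (c : G) * n⁻¹ = (c : G) := by
          have h2 : n * (c : G) = c * n := congrArg Subtype.val (hNc.is_comm.comm (⟨n, hn⟩ : N) c)
          rw [h2, mul_inv_cancel_right]
        show (c : G) = n * m * (b : G) * (n * m)⁻¹
        rw [show n * m * (b : G) * (n * m)⁻¹ = n * (m * b * m⁻¹) * n⁻¹ by group, ← hcn, hc,
          MulAut.conjNormal_apply]⟩
    rcases hmin L hLn (Subgroup.map_subtype_le _) with h | h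
    · refine Or.inl ((AddSubgroup.eq_bot_iff_forall _).2 fun v hv => ?_)
      have h2 : ((Additive.toMul v : N) : G) ∈ L := ⟨Additive.toMul v, hv, rfl⟩
      rw [h, Subgroup.mem_bot] at h2
      exact (Subtype.ext h2 : Additive.toMul v = 1)
    · refine Or.inr (eq_top_iff.2 fun v _ => ?_)
      obtain ⟨b, hb, hbv⟩ := (h.symm ▸ (Additive.toMul v : N).2 : ((Additive.toMul v : N) : G) ∈ L)
      rw [Subtype.ext hbv] at hb
      exact hb
  have hV : ∀ v : Additive N, p • v = 0 := fun v =>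
    Additive.toMul.injective (Subtype.ext (hNp' _ (Additive.toMul v).2) : (Additive.toMul v) ^ p = 1)
  have hcardV : Nat.card (Additive N) = p ^ a := ha
  have hXM : Nat.card X = Nat.card M := Nat.card_congr (MonoidHom.ofInjective hρinj).toEquiv.symm
  have hXodd : Odd (Nat.card X) := hXM ▸ odd_subgroup hodd M
  have hGcard : Nat.card G = Nat.card Ω * Nat.card X := by
    rw [hXM, ← M.card_mul_index, index_stabilizer_of_transitive, mul_comm]
  have hdvd := card_dvd_gl hV hcardV X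
  -- fixed points
  have hfixed : ∀ g : G, g ≠ 1 → Nat.card {x : Ω // g • x = x} * p ≤ p ^ a := by
    intro g hg
    rcases isEmpty_or_nonempty {x : Ω // g • x = x} with he0 | ⟨⟨x, hx⟩⟩
    · simp
    obtain ⟨t, ht⟩ := exists_smul_eq G x x₀
    set g' := t * g * t⁻¹ with hg'
    have hg'M : g' ∈ M := by
      show (t * g * t⁻¹) • x₀ = x₀
      rw [mul_smul, mul_smul, inv_smul_eq_iff.2 ht.symm, hx, ht]
    have hcongr : Nat.card {x : Ω // g • x = x} = Nat.card {x : Ω // g' • x = x} := by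
      refine Nat.card_congr (Equiv.subtypeEquiv (MulAction.toPerm t) fun y => ?_)
      show g • y = y ↔ (t * g * t⁻¹) • t • y = t • y
      rw [mul_smul, mul_smul, inv_smul_smul, smul_left_cancel_iff]
    set F := fixedAdd ({ρ ⟨g', hg'M⟩} : Set (Aut1 (Additive N))) with hF
    have hF' : Nat.card {x : Ω // g' • x = x} = Nat.card F := by
      refine (Nat.card_congr (Equiv.subtypeEquiv (Additive.toMul.trans (Equiv.ofBijective e he))
        (fun v => ?_))).symm
      show v ∈ F ↔ g' • e (Additive.toMul v) = e (Additive.toMul v)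
      rw [show g' • e (Additive.toMul v) = e (MulAut.conjNormal g' (Additive.toMul v)) from
        hconj ⟨g', hg'M⟩ _, he.1.eq_iff]
      constructor
      · intro h
        exact congrArg Additive.toMul (h _ rfl)
      · intro h s hs
        rw [Set.mem_singleton_iff] at hs
        subst hs
        exact congrArg Additive.ofMul h
    have hFdvd : Nat.card F ∣ p ^ a := hcardV ▸ F.card_addSubgroup_dvd_card
    have hFne : Nat.card F ≠ p ^ a := by
      intro h
      have htop : F = ⊤ := AddSubgroup.eq_top_of_card_eq _ (h.trans hcardV.symm)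
      have : ρ ⟨g', hg'M⟩ = 1 := Units.ext (DFunLike.ext _ _ fun v =>
        (htop ▸ trivial : v ∈ F) _ rfl)
      have h1 : g' = 1 := congrArg Subtype.val (hρinj (this.trans (map_one ρ).symm))
      exact hg (by simpa [hg'] using h1)
    obtain ⟨j, hj, hjF⟩ := (Nat.dvd_prime_pow hp).1 hFdvd
    rw [hcongr, hF', hjF, ← pow_succ]
    refine Nat.pow_le_pow_right hp.pos ?_
    rcases Nat.lt_or_ge j a with h | h
    · exact h
    · exact absurd (by rw [hjF, le_antisymm hj h]) hFne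
  -- counting
  have hn : Nat.card Ω = p ^ a := hNΩ ▸ ha
  have hpa : p ^ (a - 1) * p = p ^ a := by rw [← pow_succ]; congr 1; omega
  set k := (p ^ a + 2 * p ^ (a - 1)) / 3 with hk
  have hB : ∀ g : G, g ≠ 1 → Nat.card {B : Set Ω // ∀ x, g • x ∈ B ↔ x ∈ B} ≤ 2 ^ k := by
    intro g hg
    refine card_preserved_le (g : Equiv.Perm Ω) ?_ k ?_
    · rw [Subgroup.orderOf_coe]
      exact hodd.of_dvd_nat (orderOf_dvd_natCard g)
    · have h1 : Nat.card {x : Ω // g • x = x} ≤ p ^ (a - 1) :=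
        Nat.le_of_mul_le_mul_right ((hfixed g hg).trans hpa.symm.le) hp.pos
      have h2 : Nat.card {x : Ω // (g : Equiv.Perm Ω) x = x} = Nat.card {x : Ω // g • x = x} := rfl
      omega
  have hkey : (p ^ a * Nat.card X) ^ 3 ≤ 2 ^ (2 * (p ^ a - p ^ (a - 1)) + 3) := by
    rcases Nat.lt_or_ge a 2 with h | h
    · obtain rfl : a = 1 := by omega
      have hp3 : 3 ≤ p := by have := hp.two_le; omega
      simp only [pow_one, Nat.sub_self, pow_zero]
      refine arith_prime hp3 ?_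
      have hd1 : Nat.card X ∣ p - 1 := by simpa using hdvd
      obtain ⟨s, hs⟩ := hd1
      rcases Nat.lt_or_ge s 2 with h2 | h2
      · interval_cases s
        · omega
        · obtain ⟨t, ht⟩ := hXodd
          obtain ⟨u, hu⟩ := hp.odd_of_ne_two hpodd
          omega
      · calc 2 * Nat.card X ≤ s * Nat.card X := Nat.mul_le_mul_right _ h2
          _ = p - 1 := by rw [hs, mul_comm]
    · refine arith_prim hp hpodd h ((Nat.le_of_dvd (card_gl_pos hp.two_le) hdvd).trans
        (card_gl_le hp.one_le)) ?_ ?_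
      · intro h9
        have hp3 : p = 3 := (Nat.prime_dvd_prime_iff_eq hp Nat.prime_three).1
          (hp.dvd_of_dvd_pow (show p ∣ 3 ^ 2 by norm_num; rw [← h9]; exact dvd_pow_self p ha0))
        subst hp3
        have ha2 : a = 2 := Nat.pow_right_injective (le_refl 2 |>.trans (by norm_num)) (h9.trans (by norm_num : (9 : ℕ) = 3 ^ 2))
        subst ha2
        have h48 : Nat.card X ∣ 16 * 3 := by simpa [Fin.prod_univ_two] using hdvd
        have hcop : Nat.Coprime (Nat.card X) 16 :=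
          (hXodd.coprime_two_right).pow_right 4
        exact Nat.le_of_dvd (by norm_num) (hcop.dvd_of_dvd_mul_left h48)
      · intro h27
        have hp3 : p = 3 := (Nat.prime_dvd_prime_iff_eq hp Nat.prime_three).1
          (hp.dvd_of_dvd_pow (show p ∣ 3 ^ 3 by norm_num; rw [← h27]; exact dvd_pow_self p ha0))
        subst hp3
        have ha3 : a = 3 := Nat.pow_right_injective (le_refl 2 |>.trans (by norm_num)) (h27.trans (by norm_num : (27 : ℕ) = 3 ^ 3))
        subst ha3
        have h351 : Nat.card X ∣ 32 * 351 := by simpa [Fin.prod_univ_three] using hdvd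
        have hcop : Nat.Coprime (Nat.card X) 32 :=
          (hXodd.coprime_two_right).pow_right 5
        have hd' := hcop.dvd_of_dvd_mul_left h351
        haveI : Group.IsSolvable X := Group.isSolvable_of_surjective ρ.rangeRestrict_surjective
        have hne := card_ne_351 hV hcardV X hXirr
        obtain ⟨c, hc⟩ := hd'
        by_contra hlt
        have hc3 : c < 3 := by
          by_contra h
          have h' : Nat.card X * 3 ≤ Nat.card X * c := Nat.mul_le_mul_left _ (by omega)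
          omega
        interval_cases c <;> omega
  have hcount : Nat.card G * 2 ^ k ≤ 2 * Nat.card (Set Ω) := by
    rw [hGcard, hn, show Set Ω = (Ω → Prop) from rfl, Nat.card_fun, hn,
      Nat.card_eq_fintype_card (α := Prop), Fintype.card_prop, ← pow_succ']
    refine (Nat.pow_le_pow_iff_left (show 3 ≠ 0 by norm_num)).1 ?_
    rw [mul_pow, ← pow_mul, ← pow_mul]
    calc (p ^ a * Nat.card X) ^ 3 * 2 ^ (k * 3)
        ≤ 2 ^ (2 * (p ^ a - p ^ (a - 1)) + 3) * 2 ^ (k * 3) := Nat.mul_le_mul_right _ hkey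
      _ = 2 ^ (2 * (p ^ a - p ^ (a - 1)) + 3 + k * 3) := (pow_add 2 _ _).symm
      _ ≤ 2 ^ ((p ^ a + 1) * 3) := Nat.pow_le_pow_right (by norm_num) (by
          have : p ^ (a - 1) ≤ p ^ a := Nat.pow_le_pow_right hp.pos (by omega)
          omega)
  letI : MulAction G (Set Ω) :=
    { smul := fun g B => {x | g⁻¹ • x ∈ B}
      one_smul := fun B => by show {x | (1 : G)⁻¹ • x ∈ B} = B; simp
      mul_smul := fun g h B => by
        show {x | (g * h)⁻¹ • x ∈ B} = {x | h⁻¹ • g⁻¹ • x ∈ B}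
        simp [mul_smul] }
  have hiff : ∀ (g : G) (B : Set Ω), g • B = B ↔ ∀ x, g • x ∈ B ↔ x ∈ B := by
    intro g B
    constructor
    · intro h x
      conv_lhs => rw [← h]
      show g⁻¹ • g • x ∈ B ↔ _
      rw [inv_smul_smul]
    · intro h
      ext x
      show g⁻¹ • x ∈ B ↔ x ∈ B
      rw [← h (g⁻¹ • x), smul_inv_smul]
  obtain ⟨B, hBB⟩ := exists_unfixed (G := G) (S := Set Ω) hodd (2 ^ k)
    (fun g hg => by
      rw [Nat.card_congr (Equiv.subtypeEquivRight fun B => hiff g B)]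
      exact hB g hg) hcount
  exact ⟨B, fun g hg h => congrArg Subtype.val (hBB ⟨g, hg⟩ ((hiff _ B).2 h))⟩

/-- Restriction to an invariant set. -/
def restrictHom {Ω : Type*} (H : Subgroup (Equiv.Perm Ω)) (S : Set Ω)
    (hS : ∀ h ∈ H, ∀ x, h x ∈ S ↔ x ∈ S) : H →* Equiv.Perm S where
  toFun h := Equiv.Perm.subtypePerm (h : Equiv.Perm Ω) (fun x => hS h h.2 x)
  map_one' := Equiv.ext fun _ => rfl
  map_mul' _ _ := Equiv.ext fun _ => rfl

universe u

/-- Gluck's lemma for odd order. -/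
theorem gluck_aux : ∀ (n : ℕ) (Ω : Type u) [Finite Ω], Nat.card Ω = n →
    ∀ (G : Subgroup (Equiv.Perm Ω)), Odd (Nat.card G) → Group.IsSolvable G →
    ∃ B : Set Ω, ∀ g ∈ G, (∀ x, g x ∈ B ↔ x ∈ B) → g = 1 := by
  intro n
  induction n using Nat.strong_induction_on with
  | _ n ih => ?_
  intro Ω _ hn G hodd hsolv
  classical
  -- pieces
  have piece : ∀ (H : Subgroup (Equiv.Perm Ω)) (S : Set Ω), H ≤ G →
      (hS : ∀ h ∈ H, ∀ x, h x ∈ S ↔ x ∈ S) → (∃ y, y ∉ S) →
      ∃ B : Set Ω, ∀ h ∈ H, (∀ x ∈ S, h x ∈ B ↔ x ∈ B) → ∀ x ∈ S, h x = x := by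
    intro H S hHG hS ⟨y, hy⟩
    let f := restrictHom H S hS
    haveI : Group.IsSolvable H :=
      Group.isSolvable_of_isSolvable_injective (Subgroup.inclusion_injective hHG)
    have hHodd : Odd (Nat.card H) := hodd.of_dvd_nat (Subgroup.card_dvd_of_le hHG)
    have hlt : Nat.card S < n := hn ▸ Finite.card_subtype_lt hy
    obtain ⟨B, hB⟩ := ih _ hlt S rfl f.range
      (odd_of_surjective f.rangeRestrict f.rangeRestrict_surjective hHodd)
      (Group.isSolvable_of_surjective f.rangeRestrict_surjective)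
    refine ⟨Subtype.val '' B, fun h hh hpres x hx => ?_⟩
    have h1 := hB (f ⟨h, hh⟩) ⟨⟨h, hh⟩, rfl⟩ fun z => by
      have h2 := hpres z z.2
      simp only [Set.mem_image, Subtype.exists, exists_and_right, exists_eq_right] at h2
      obtain ⟨zv, hz⟩ := z
      constructor
      · intro hB'
        obtain ⟨_, hz'⟩ := h2.1 ⟨(hS h hh zv).2 hz, hB'⟩
        exact hz'
      · intro hB'
        obtain ⟨_, hz'⟩ := h2.2 ⟨hz, hB'⟩
        exact hz'
    exact congrArg Subtype.val (Equiv.congr_fun h1 ⟨x, hx⟩)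
  rcases isEmpty_or_nonempty Ω with he | ⟨⟨x₀⟩⟩
  · exact ⟨∅, fun g _ _ => Equiv.ext fun x => (IsEmpty.false x).elim⟩
  haveI : Nonempty Ω := ⟨x₀⟩
  by_cases htr : ∀ y : Ω, ∃ g : G, g • x₀ = y
  swap
  · -- intransitive
    push Not at htr
    obtain ⟨y, hy⟩ := htr
    set O : Set Ω := orbit G x₀ with hO
    have hOinv : ∀ h ∈ G, ∀ x, h x ∈ O ↔ x ∈ O := fun h hh x => by
      show (⟨h, hh⟩ : G) • x ∈ orbit G x₀ ↔ x ∈ orbit G x₀
      constructor <;> intro hx
      · have := mem_orbit_of_mem_orbit (⟨h, hh⟩ : G)⁻¹ hx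
        rwa [inv_smul_smul] at this
      · exact mem_orbit_of_mem_orbit _ hx
    obtain ⟨B₁, hB₁⟩ := piece G O le_rfl hOinv ⟨y, fun ⟨g, hg⟩ => hy g hg⟩
    obtain ⟨B₂, hB₂⟩ := piece G Oᶜ le_rfl (fun h hh x => not_congr (hOinv h hh x))
      ⟨x₀, fun h => h (mem_orbit_self x₀)⟩
    refine ⟨(O ∩ B₁) ∪ (Oᶜ ∩ B₂), fun g hg hpres => Equiv.ext fun x => ?_⟩
    by_cases hx : x ∈ O
    · refine hB₁ g hg (fun z hz => ?_) x hx
      have h1 := hpres z
      simpa [Set.mem_union, Set.mem_inter_iff, hz, (hOinv g hg z).2 hz] using h1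
    · refine hB₂ g hg (fun z hz => ?_) x hx
      have h1 := hpres z
      have hgz : g z ∉ O := fun h => hz ((hOinv g hg z).1 h)
      simpa [Set.mem_union, Set.mem_inter_iff, show z ∉ O from hz, hgz] using h1
  haveI : IsPretransitive G Ω := ⟨fun a b => by
    obtain ⟨u, hu⟩ := htr a
    obtain ⟨v, hv⟩ := htr b
    exact ⟨v * u⁻¹, by rw [mul_smul, ← hu, inv_smul_smul, hv]⟩⟩
  haveI := hsolv
  set St := stabilizer G x₀ with hSt
  by_cases hSttop : St = ⊤
  · refine ⟨∅, fun g hg _ => Equiv.ext fun x => ?_⟩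
    obtain ⟨t, rfl⟩ := exists_smul_eq G x₀ x
    have h1 : t • x₀ = x₀ := (hSttop ▸ Subgroup.mem_top t : t ∈ St)
    rw [h1]
    exact (hSttop ▸ Subgroup.mem_top (⟨g, hg⟩ : G) : (⟨g, hg⟩ : G) ∈ St)
  by_cases hco : IsCoatom St
  · exact gluck_primitive G hodd x₀ hco
  obtain ⟨M, hStM, hMtop⟩ : ∃ M : Subgroup G, St < M ∧ M ≠ ⊤ := by
    by_contra hne
    push Not at hne
    exact hco ⟨hSttop, hne⟩
  -- the blocks
  choose t ht using htr
  let π : Ω → G ⧸ M := fun x => (t x : G ⧸ M)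
  have hπ : ∀ (g : G) (x : Ω), π (g • x) = g • π x := by
    intro g x
    show ((t (g • x) : G) : G ⧸ M) = ((g * t x : G) : G ⧸ M)
    rw [QuotientGroup.eq]
    refine hStM.le (show _ • x₀ = x₀ from ?_)
    rw [mul_smul, mul_smul, ht x, inv_smul_eq_iff, ht]
  have hπ0 : π x₀ = ((1 : G) : G ⧸ M) := by
    show ((t x₀ : G) : G ⧸ M) = ((1 : G) : G ⧸ M)
    rw [QuotientGroup.eq, mul_one]
    exact inv_mem (hStM.le (ht x₀))
  have hπsurj : Function.Surjective π := fun i => by
    obtain ⟨g, rfl⟩ := QuotientGroup.mk_surjective i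
    exact ⟨g • x₀, by rw [hπ, hπ0, MulAction.Quotient.smul_mk, smul_eq_mul, mul_one]⟩
  have hIlt : Nat.card (G ⧸ M) < n := by
    refine lt_of_le_of_ne (hn ▸ Nat.card_le_card_of_surjective π hπsurj) fun heq => ?_
    have hbij := Nat.bijective_iff_surjective_and_card π |>.2 ⟨hπsurj, hn.trans heq.symm⟩
    obtain ⟨m, hm, hmS⟩ := SetLike.exists_of_lt hStM
    refine hmS (hbij.1 ?_)
    rw [hπ, hπ0, MulAction.Quotient.smul_mk, smul_eq_mul, mul_one, QuotientGroup.eq, mul_one]
    exact inv_mem hm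
  -- the action on the blocks
  let σ := MulAction.toPermHom G (G ⧸ M)
  obtain ⟨BI, hBI⟩ := ih _ hIlt (G ⧸ M) rfl σ.range
    (odd_of_surjective σ.rangeRestrict σ.rangeRestrict_surjective hodd)
    (Group.isSolvable_of_surjective σ.rangeRestrict_surjective)
  -- the action on a block
  set F : Set Ω := {x | π x = ((1 : G) : G ⧸ M)} with hF
  set H : Subgroup (Equiv.Perm Ω) := M.map G.subtype with hH
  have hFinv : ∀ h ∈ H, ∀ x, h x ∈ F ↔ x ∈ F := by
    rintro _ ⟨m, hm, rfl⟩ x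
    show π (m • x) = _ ↔ π x = _
    have hm1 : m • ((1 : G) : G ⧸ M) = ((1 : G) : G ⧸ M) := by
      rw [MulAction.Quotient.smul_mk, smul_eq_mul, mul_one, QuotientGroup.eq, mul_one]
      exact inv_mem hm
    rw [hπ]
    conv_lhs => rw [← hm1]
    exact smul_left_cancel_iff m
  obtain ⟨g₁, -, hg₁⟩ := SetLike.exists_of_lt (lt_top_iff_ne_top.2 hMtop)
  obtain ⟨B₀, hB₀⟩ := piece H F (Subgroup.map_subtype_le M) hFinv ⟨g₁ • x₀, fun h => hg₁ (by
    have h' : π (g₁ • x₀) = ((1 : G) : G ⧸ M) := h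
    rw [hπ, hπ0, MulAction.Quotient.smul_mk, smul_eq_mul, mul_one, QuotientGroup.eq, mul_one] at h'
    exact inv_mem_iff.1 h')⟩
  choose s hs using fun i : G ⧸ M => QuotientGroup.mk_surjective i
  let P : G ⧸ M → Set Ω := fun i => if i ∈ BI then B₀ else B₀ᶜ
  refine ⟨{x | (s (π x))⁻¹ • x ∈ P (π x)}, fun g hg hpres => ?_⟩
  set g' : G := ⟨g, hg⟩ with hg'
  -- the induced map between blocks
  let h : G ⧸ M → G := fun i => (s (g' • i))⁻¹ * g' * s i
  have hhM : ∀ i, h i ∈ M := by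
    intro i
    show (s (g' • i))⁻¹ * g' * s i ∈ M
    rw [mul_assoc, ← QuotientGroup.eq, hs]
    conv_lhs => rw [← hs i]
    rfl
  have hhP : ∀ i, ∀ y ∈ F, h i • y ∈ P (g' • i) ↔ y ∈ P i := by
    intro i y hy
    have hπy : π (s i • y) = i := by
      rw [hπ, show π y = _ from hy, MulAction.Quotient.smul_mk, smul_eq_mul, mul_one, hs]
    have h1 := hpres (s i • y)
    change (s (π (g' • s i • y)))⁻¹ • (g' • s i • y) ∈ P (π (g' • s i • y)) ↔
      (s (π (s i • y)))⁻¹ • s i • y ∈ P (π (s i • y)) at h1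
    rw [hπ, hπy, inv_smul_smul, ← mul_smul, ← mul_smul] at h1
    exact h1
  have hflip : ∀ i, i ∈ BI ↔ g' • i ∈ BI := by
    intro i
    by_contra hne
    have hne' : ∀ y ∈ F, h i • y ∈ B₀ ↔ y ∉ B₀ := by
      intro y hy
      have h1 := hhP i y hy
      by_cases hi : i ∈ BI
      · have hgi : g' • i ∉ BI := fun h => hne ⟨fun _ => h, fun _ => hi⟩
        simp only [P, hi, hgi, if_true, if_false, Set.mem_compl_iff] at h1
        tauto
      · have hgi : g' • i ∈ BI := by
          by_contra h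
          exact hne ⟨fun h' => absurd h' hi, fun h' => absurd h' h⟩
        simp only [P, hi, hgi, if_true, if_false, Set.mem_compl_iff] at h1
        exact h1
    have hhF : ∀ y ∈ F, h i • y ∈ F := fun y hy =>
      ((hFinv _ ⟨h i, hhM i, rfl⟩ y).2 hy : (h i : Equiv.Perm Ω) y ∈ F)
    have hsq : ∀ y ∈ F, (h i * h i) • y = y := by
      refine hB₀ ((h i * h i : G) : Equiv.Perm Ω) ⟨_, mul_mem (hhM i) (hhM i), rfl⟩ fun y hy => ?_
      show h i • h i • y ∈ B₀ ↔ y ∈ B₀
      rw [hne' _ (hhF y hy), hne' y hy, not_not]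
    have hfix : ∀ y ∈ F, h i • y = y := by
      intro y hy
      obtain ⟨k, hk⟩ := hodd.of_dvd_nat (orderOf_dvd_natCard (h i))
      have h2 : h i * h i ∈ stabilizer G y := hsq y hy
      have h3 : h i ^ orderOf (h i) • y = y := by rw [pow_orderOf_eq_one, one_smul]
      rwa [hk, pow_succ', mul_smul, pow_mul, pow_two,
        mem_stabilizer_iff.1 (pow_mem h2 k)] at h3
    have := hne' x₀ hπ0
    rw [hfix x₀ hπ0] at this
    exact iff_not_self this
  have hσ : σ g' = 1 := hBI _ ⟨g', rfl⟩ fun i => (hflip i).symm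
  refine Equiv.ext fun x => ?_
  have hi : g' • π x = π x := congrFun (congrArg DFunLike.coe hσ) (π x)
  set y := (s (π x))⁻¹ • x with hy
  have hyF : y ∈ F := by
    show π ((s (π x))⁻¹ • x) = _
    rw [hπ]
    conv_lhs => arg 2; rw [← hs (π x)]
    rw [MulAction.Quotient.smul_mk, smul_eq_mul, inv_mul_cancel]
  have h2 : ∀ z ∈ F, h (π x) • z ∈ B₀ ↔ z ∈ B₀ := by
    intro z hz
    have h1 := hhP (π x) z hz
    rw [hi] at h1
    by_cases hb : π x ∈ BI
    · simpa [P, hb] using h1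
    · simp only [P, hb, if_false, Set.mem_compl_iff] at h1
      exact not_iff_not.1 h1
  have h3 : h (π x) • y = y := hB₀ _ ⟨_, hhM (π x), rfl⟩ h2 y hyF
  simp only [h] at h3
  rw [hi, mul_smul, mul_smul, smul_left_cancel_iff] at h3
  rw [hy, smul_inv_smul] at h3
  exact h3

theorem gluck {Ω : Type u} [Finite Ω] (G : Subgroup (Equiv.Perm Ω)) (hodd : Odd (Nat.card G))
    (hsolv : Group.IsSolvable G) : ∃ B : Set Ω, ∀ g ∈ G, (∀ x, g x ∈ B ↔ x ∈ B) → g = 1 :=
  gluck_aux _ Ω rfl G hodd hsolv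

end Cfsg.Agent.PairBase
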